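import Groth.Agent.BunMod.K757.DetM0
import Groth.Agent.BunMod.K140.Asm1
import Groth.Agent.BunMod.K957.ThetaLBJ
import Groth.Agent.VBCurve.K704.PicD

/-!
# Families with determinant `L` form a closed subproblem

* `picDeg_cst`: constant families of line bundles;
* `exists_closed`: in a family of semistable bundles of degree `0` the locus "determinant `L`" is closed;
* `subProb`, `subRep`: the structures of `K140.BM` for `Q = ussDetOK r L`.
-/

set_option autoImplicit false
universe u
open CategoryTheory CategoryTheory.Limits AlgebraicGeometry MonoidalCategory CartesianMonoidalCategory MonObj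

namespace K757.SubDet

open Groth.Agent K757.Fam K757.Geo K757.HomOver K757.Act K757.TwistUSS K757.DetM0

section gen

variable {k : Type u} [Field k] {X : Scheme.{u}} {f : X ⟶ Spec (CommRingCat.of k)}
  [IsProper f] [Smooth f] [GeometricallyConnected f] (hdim : topologicalKrullDim X = 1)

include hdim in
/-- Constant families of line bundles. -/
theorem picDeg_cst {L : X.Modules} (hL : PicF.IsInvertible L) {d : ℤ}
    (hLd : letI : X.Over (Spec (CommRingCat.of k)) := ⟨f⟩
      Curv2.deg k X L 1 = d) (T : Over (Spec (CommRingCat.of k))) : (ModFun.PicDeg f d).ok T (cst f T L) := by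
  have := K914.Curve.geometricallyIrreducible f
  rw [K704.PicD.ok_iff f hdim]
  refine ⟨inv_pull _ hL, fun t => K704.PicD.fdeg_tw f (Grpsch.PicGrp.mk L hL) ?_ T t⟩
  let _ : X.Over (Spec (CommRingCat.of k)) := ⟨f⟩
  have hp : IsProper (X ↘ Spec (CommRingCat.of k)) := inferInstanceAs (IsProper f)
  have h : Curv2.deg k X L 1 = d := hLd
  rw [Etcore.DegZero.dg_mk, Etcore.DegZero.eulerCharLE_eq k X hdim, Etcore.DegZero.eulerCharLE_eq k X hdim, ← h,
    Curv2.deg, Nat.cast_one, _root_.one_mul]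

end gen

section closed

open K140.BM (B0 st SubProb SubRep KSet KRep KFacts kcrd kcrd_comp KE)

variable {k : Type u} [Field k] [IsAlgClosed k] {X : Scheme.{u}} [X.Over (Spec (CommRingCat.of k))]
  [IsProper (X ↘ Spec (CommRingCat.of k))] [Smooth (X ↘ Spec (CommRingCat.of k))]
  [GeometricallyConnected (X ↘ Spec (CommRingCat.of k))] (hdim : topologicalKrullDim X = 1)
  {r : ℕ} {L : X.Modules} (hL : PicF.IsInvertible L) (hLd : Curv2.deg k X L 1 = 0)

omit [IsAlgClosed k] in
include hdim hL hLd in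
/-- Families with determinant `L` of degree `0` are admissible. -/
theorem ussOK_of_det {T : Over (B0 k)} {E : (PicF.XT (st k X) T).Modules}
    (h : BunMod.ussDetOK (st k X) r L T E) : BunMod.ussOK (st k X) r 0 T E := by
  obtain ⟨h1, ⟨D, hD, h2⟩, h3⟩ := h
  exact ⟨h1, (fibDeg_det_iff (f := st k X) hdim h1 hD).1
    (picDeg_ok_iff.1 (picDeg_r h2 (picDeg_cst (f := st k X) hdim hL hLd T))).2, h3⟩

include hdim in
theorem exists_J : ∃ (J : Over (B0 k)) (_ : GrpObj J) (_ : IsCommMonObj J) (ψ : (ModFun.PicDeg (st k X) 0).Hom ⊤ J),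
    IsSeparated J.hom ∧ Jac.IsJacobian (st k X) ⊤ J ψ ∧ Nonempty (FineJ (st k X) J ψ) := by
  obtain ⟨J, hG, hC, ψ, hJ⟩ := BunMod.K957.ThetaLBJ.exists_jacobian k X hdim
  have := K705.Setup.isIntegral_of_geomConn k X
  obtain ⟨x, hx⟩ : ∃ x : X, IsClosed ({x} : Set X) := by
    have : CompactSpace X := QuasiCompact.compactSpace_of_compactSpace (X ↘ Spec (CommRingCat.of k))
    obtain ⟨x, -, hx⟩ := IsClosed.exists_closed_singleton (S := (Set.univ : Set X)) isClosed_univ Set.univ_nonempty
    exact ⟨x, hx⟩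
  obtain ⟨σ, hσ, -⟩ := Fga.JacFactor.exists_section_of_closed (Iso.refl (Spec (CommRingCat.of k)))
    (X ↘ Spec (CommRingCat.of k)) x hx
  have := K532.Base.smoothOfRelDim (st k X) hdim
  have hp := K914.Fine.isProper_of_coarse (st k X) σ hσ hJ.coarse
  exact ⟨J, hG, hC, ψ, inferInstance, hJ, exists_fineJ hdim σ hσ hJ⟩

include hdim hL hLd in
/-- The locus in a family where the determinant is `L`. -/
theorem exists_closed {Z : Over (B0 k)} {E : (PicF.XT (st k X) Z).Modules} (hE : BunMod.ussOK (st k X) r 0 Z E) :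
    ∃ (Z' : Over (B0 k)) (i : Z' ⟶ Z), IsClosedImmersion i.left ∧ ∀ (T : Over (B0 k)) (c : T ⟶ Z),
      BunMod.ussDetOK (st k X) r L T (pl (st k X) c E) ↔ ∃ c' : T ⟶ Z', c' ≫ i = c := by
  obtain ⟨J, _, _, ψ, hs, hJ, ⟨FJ⟩⟩ := exists_J (k := k) (X := X) hdim
  obtain ⟨D, hDi, hD⟩ := exists_det hE.1
  have hDok := picDeg_det hdim hE hD
  let d : Z ⟶ J := ψ.app Z D trivial hDok
  have hLok : ∀ T, (ModFun.PicDeg (st k X) 0).ok T (cst (st k X) T L) := picDeg_cst hdim hL hLd
  let l : 𝟙_ (Over (B0 k)) ⟶ J := ψ.app _ (cst (st k X) (𝟙_ (Over (B0 k))) L) trivial (hLok _)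
  have hl : ∀ T : Over (B0 k), toUnit T ≫ l = ψ.app T (cst (st k X) T L) trivial (hLok T) := by
    intro T
    have h1 := ψ.natural (toUnit T) (cst (st k X) (𝟙_ (Over (B0 k))) L) trivial trivial (hLok _)
      (picDeg_pull (toUnit T) (hLok _))
    rw [← h1]
    exact ψ.resp _ _ trivial _ _ (r_of_iso _ (pl_cst _ _ _))
  have hlc : IsClosedImmersion l.left := by
    refine isClosedImmersion_of_comp_eq_id (Y := B0 k) J.hom l.left ?_
    exact Over.w l
  refine ⟨pullback d l, pullback.fst d l, ?_, fun T c => ?_⟩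
  · have h1 : IsPullback (pullback.fst d l).left (pullback.snd d l).left d.left l.left :=
      (IsPullback.of_hasPullback d l).map (Over.forget _)
    exact MorphismProperty.of_isPullback h1.flip hlc
  · have hok := ussOK_pull c hE
    have hDc := det_pull (PicF.XTmap (st k X) c) hE.1 hD
    have hDcok : (ModFun.PicDeg (st k X) 0).ok T (pl (st k X) c D) := picDeg_pull c hDok
    have h1 : BunMod.ussDetOK (st k X) r L T (pl (st k X) c E) ↔ c ≫ d = toUnit T ≫ l := by
      have h2 : c ≫ d = ψ.app T (pl (st k X) c D) trivial hDcok :=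
        (ψ.natural c D trivial trivial hDok hDcok).symm
      rw [hl, h2, FJ.psi_eq_iff hDcok (hLok T)]
      constructor
      · rintro ⟨-, h3, -⟩
        exact r_symm ((detIs_iff hDc).1 h3)
      · intro h3
        exact ⟨hok.1, (detIs_iff hDc).2 (r_symm h3), hok.2.2⟩
    rw [h1]
    constructor
    · intro h
      exact ⟨pullback.lift c (toUnit T) h, pullback.lift_fst _ _ _⟩
    · rintro ⟨c', rfl⟩
      rw [Category.assoc, pullback.condition, ← Category.assoc]
      congr 1
      exact toUnit_unique _ _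

include hdim hL hLd in
omit [IsAlgClosed k] in
theorem subProb : SubProb k X r (BunMod.ussDetOK (st k X) r L) where
  le _ _ h := ussOK_of_det hdim hL hLd h
  iso T F F' e h := by
    obtain ⟨h1, ⟨D, hD, h2⟩, h3⟩ := h
    obtain ⟨D', -, hD'⟩ := exists_det (rank_iso e h1)
    obtain ⟨e'⟩ := det_unique e hD hD'
    exact ⟨rank_iso e h1, ⟨D', hD', r_trans h2 (r_of_iso _ ⟨e'⟩)⟩, fibSS_iso e h3⟩
  pull g _ h := ussDetOK_pull g h

include hdim hL hLd in
/-- The closed subscheme of the scheme of good Kronecker modules with determinant `L`. -/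
theorem exists_subRep {S : KSet X} {a b : ℕ} (K : KRep (k := k) S.toKDat r a b) (hF : KFacts (k := k) S r a b) :
    Nonempty (SubRep K (BunMod.ussDetOK (st k X) r L)) := by
  obtain ⟨Z', i, hi, h⟩ := exists_closed (k := k) (X := X) hdim hL hLd (Z := K.Z) K.good.1
  have hP := subProb (k := k) (X := X) (r := r) hdim hL hLd
  have key : ∀ (T : Over (B0 k)) (c : T ⟶ K.Z),
      Nonempty (pl (st k X) c (KE S.toKDat K.Z (kcrd k K.j)) ≅ KE S.toKDat T (kcrd k (c.left ≫ K.j))) := by
    intro T c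
    obtain ⟨e⟩ := hF.pull c (kcrd k K.j)
    rw [kcrd_comp]
    exact ⟨e⟩
  refine ⟨⟨Z', i, hi, ?_, fun T c hc => ?_⟩⟩
  · exact hP.iso _ _ _ (key Z' i) ((h Z' i).2 ⟨𝟙 _, Category.id_comp _⟩)
  · obtain ⟨e⟩ := key T c
    exact (h T c).1 (hP.iso _ _ _ ⟨e.symm⟩ hc)

end closed

end K757.SubDet
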