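import Groth.Prelude.Def_ModFun

/-!
# Universal corepresentability of a moduli problem

For a morphism `φ : F.Hom ⊤ M` from a moduli problem to `h_M` and `y : Y ⟶ M`:
* `K757.HomOver.bc φ y`: the problem `F ×_M Y` (families `x` of `F` over `T` with `t : T ⟶ Y` lifting `φ x`);
* `K757.HomOver.bcHom φ y`: its classifying map `(x, t) ↦ t`;
* `K757.HomOver.UnivBest φ`: for EVERY `y : Y ⟶ M`, `Y` is a best approximation of `F ×_M Y`.

Consequences: `UnivBest.best`, `UnivBest.hom_ext`, `UnivBest.existsUnique_prod` (`M ⊗ B` corepresents `F × h_B`),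
`UnivBest.sub` (pull back along a monomorphism `Y ⟶ M`), `UnivBest.of_hom_iso`.
-/

set_option autoImplicit false
universe u
open CategoryTheory CategoryTheory.Limits AlgebraicGeometry MonoidalCategory CartesianMonoidalCategory

namespace K757.HomOver

variable {S : Scheme.{u}} {F : ModFun.Problem.{u + 1} S} {M : Over S} (φ : F.Hom ⊤ M)

/-- The problem `F ×_M Y`. -/
def bc {Y : Over S} (y : Y ⟶ M) : ModFun.Problem.{u + 1} S where
  Fam T := F.Fam T × (T ⟶ Y)
  pull g x := (F.pull g x.1, g ≫ x.2)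
  ok T x := ∃ h : F.ok T x.1, x.2 ≫ y = φ.app T x.1 trivial h
  r T x x' := F.r T x.1 x'.1 ∧ x.2 = x'.2

/-- The classifying map of `F ×_M Y`. -/
def bcHom {Y : Over S} (y : Y ⟶ M) : (bc φ y).Hom ⊤ Y where
  app _ x _ _ := x.2
  natural _ _ _ _ _ _ := rfl
  resp _ _ _ _ _ h := h.2

@[simp]
theorem bcHom_app {Y : Over S} (y : Y ⟶ M) (T : Over S) (x : (bc φ y).Fam T) (hT : (⊤ : ObjectProperty (Over S)) T)
    (hx : (bc φ y).ok T x) : (bcHom φ y).app T x hT hx = x.2 := rfl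

/-- `M` corepresents `F` universally: every `Y ⟶ M` is a best approximation of `F ×_M Y`. -/
def UnivBest : Prop :=
  ∀ ⦃Y : Over S⦄ (y : Y ⟶ M), ModFun.IsBestApprox ⊤ (bc φ y) Y (bcHom φ y)

variable {φ}

/-- The value on a family with a lift. -/
theorem ok_bc {Y : Over S} {y : Y ⟶ M} {T : Over S} {x : F.Fam T} {t : T ⟶ Y} (hx : F.ok T x)
    (ht : t ≫ y = φ.app T x trivial hx) : (bc φ y).ok T (x, t) := ⟨hx, ht⟩

namespace UnivBest

/-- The constructor: a natural rule on pairs `(x, t)` gives a map. -/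
theorem desc (h : UnivBest φ) {Y : Over S} (y : Y ⟶ M) {N : Over S}
    (ρ : ∀ (T : Over S) (x : F.Fam T) (hx : F.ok T x) (t : T ⟶ Y), t ≫ y = φ.app T x trivial hx → (T ⟶ N))
    (hnat : ∀ {T T' : Over S} (g : T' ⟶ T) (x : F.Fam T) (hx : F.ok T x) (hx' : F.ok T' (F.pull g x)) (t : T ⟶ Y)
      (ht : t ≫ y = φ.app T x trivial hx) (ht' : (g ≫ t) ≫ y = φ.app T' (F.pull g x) trivial hx'),
      ρ T' (F.pull g x) hx' (g ≫ t) ht' = g ≫ ρ T x hx t ht)
    (hresp : ∀ {T : Over S} (x x' : F.Fam T) (hx : F.ok T x) (hx' : F.ok T x') (t : T ⟶ Y)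
      (ht : t ≫ y = φ.app T x trivial hx) (ht' : t ≫ y = φ.app T x' trivial hx'), F.r T x x' →
      ρ T x hx t ht = ρ T x' hx' t ht') :
    ∃! q : Y ⟶ N, ∀ (T : Over S) (x : F.Fam T) (hx : F.ok T x) (t : T ⟶ Y)
      (ht : t ≫ y = φ.app T x trivial hx), ρ T x hx t ht = t ≫ q := by
  let ψ : (bc φ y).Hom ⊤ N :=
    { app := fun T x _ hx => ρ T x.1 hx.choose x.2 hx.choose_spec
      natural := by
        intro T T' g x _ _ hx hx'
        exact hnat g x.1 hx.choose hx'.choose x.2 hx.choose_spec hx'.choose_spec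
      resp := by
        rintro T ⟨x, t⟩ ⟨x', t'⟩ _ hx hx' ⟨h1, h2⟩
        obtain rfl : t = t' := h2
        exact hresp x x' hx.choose hx'.choose t hx.choose_spec hx'.choose_spec h1 }
  obtain ⟨q, hq, huniq⟩ := h y N ψ
  refine ⟨q, fun T x hx t ht => hq T (x, t) trivial ⟨hx, ht⟩, fun q' hq' => huniq q' ?_⟩
  intro T x _ hx
  exact hq' T x.1 hx.choose x.2 hx.choose_spec

/-- Two maps out of `Y` agree when they agree on all `(x, t)`. -/
theorem hom_ext (h : UnivBest φ) {Y : Over S} (y : Y ⟶ M) {N : Over S} {q q' : Y ⟶ N}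
    (hq : ∀ (T : Over S) (x : F.Fam T) (hx : F.ok T x) (t : T ⟶ Y), t ≫ y = φ.app T x trivial hx → t ≫ q = t ≫ q') :
    q = q' := by
  obtain ⟨q₀, _, hu⟩ := h y N ((bcHom φ y).comp q)
  rw [hu q (fun T x hT hx => rfl), ← hu q' (fun T x hT hx => hq T x.1 hx.choose x.2 hx.choose_spec)]

omit φ in
/-- `F` itself: `UnivBest` implies best approximation. -/
theorem best {φ : F.Hom ⊤ M} (h : UnivBest φ) : ModFun.IsBestApprox ⊤ F M φ := by
  intro N ψ
  obtain ⟨q, hq, hu⟩ := h.desc (𝟙 M) (N := N) (fun T x hx _ _ => ψ.app T x trivial hx)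
    (fun g x hx hx' _ _ _ => ψ.natural g x trivial trivial hx hx')
    (fun x x' hx hx' _ _ _ hr => ψ.resp x x' trivial hx hx' hr)
  refine ⟨q, fun T x _ hx => hq T x hx (φ.app T x trivial hx) (Category.comp_id _), fun q' hq' => hu q' ?_⟩
  intro T x hx t ht
  rw [Category.comp_id] at ht
  rw [ht]
  exact hq' T x trivial hx

/-- `M ⊗ B` corepresents `F × h_B`. -/
theorem existsUnique_prod (h : UnivBest φ)
    (hok : ∀ {T T' : Over S} (g : T' ⟶ T) (x : F.Fam T), F.ok T x → F.ok T' (F.pull g x))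
    (B : Over S) {N : Over S}
    (ρ : ∀ (T : Over S) (x : F.Fam T), F.ok T x → (T ⟶ B) → (T ⟶ N))
    (hnat : ∀ {T T' : Over S} (g : T' ⟶ T) (x : F.Fam T) (hx : F.ok T x) (b : T ⟶ B),
      ρ T' (F.pull g x) (hok g x hx) (g ≫ b) = g ≫ ρ T x hx b)
    (hresp : ∀ {T : Over S} (x x' : F.Fam T) (hx : F.ok T x) (hx' : F.ok T x') (b : T ⟶ B), F.r T x x' →
      ρ T x hx b = ρ T x' hx' b) :
    ∃! q : M ⊗ B ⟶ N, ∀ (T : Over S) (x : F.Fam T) (hx : F.ok T x) (b : T ⟶ B),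
      lift (φ.app T x trivial hx) b ≫ q = ρ T x hx b := by
  obtain ⟨q, hq, hu⟩ := h.desc (CartesianMonoidalCategory.fst M B) (N := N)
    (fun T x hx t _ => ρ T x hx (t ≫ CartesianMonoidalCategory.snd M B))
    (fun g x hx hx' t _ _ => by rw [Category.assoc]; exact hnat g x hx _)
    (fun x x' hx hx' t _ _ hr => hresp x x' hx hx' _ hr)
  refine ⟨q, fun T x hx b => ?_, fun q' hq' => hu q' ?_⟩
  · have := hq T x hx (lift (φ.app T x trivial hx) b) (lift_fst _ _)
    rw [← this, lift_snd]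
  · intro T x hx t ht
    rw [← hq' T x hx (t ≫ CartesianMonoidalCategory.snd M B)]
    congr 1
    apply CartesianMonoidalCategory.hom_ext
    · rw [lift_fst, ht]
    · rw [lift_snd]

/-- Base change of universal corepresentability. -/
theorem baseChange (h : UnivBest φ) {Y : Over S} (y : Y ⟶ M) : UnivBest (bcHom φ y) := by
  intro Y' y' N ψ
  obtain ⟨q, hq, hu⟩ := h.desc (y' ≫ y) (N := N)
    (fun T x hx t ht => ψ.app T ((x, t ≫ y'), t) trivial ⟨⟨hx, (Category.assoc _ _ _).trans ht⟩, rfl⟩)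
    (fun {T T'} g x hx hx' t ht ht' => by
      have h1 : ((bc (bcHom φ y) y').pull g ((x, t ≫ y'), t) : (bc (bcHom φ y) y').Fam T') =
          ((F.pull g x, (g ≫ t) ≫ y'), g ≫ t) := by
        change ((F.pull g x, g ≫ t ≫ y'), g ≫ t) = _
        rw [Category.assoc]
      have h2 : (bc (bcHom φ y) y').ok T' ((bc (bcHom φ y) y').pull g ((x, t ≫ y'), t)) := by
        rw [h1]
        exact ⟨⟨hx', by rw [Category.assoc, ht']⟩, rfl⟩
      rw [← ψ.natural g ((x, t ≫ y'), t) trivial trivial ⟨⟨hx, by rw [Category.assoc, ht]⟩, rfl⟩ h2]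
      congr 1)
    (fun x x' hx hx' t ht ht' hr => ψ.resp _ _ trivial _ _ ⟨⟨hr, rfl⟩, rfl⟩)
  refine ⟨q, ?_, fun q' hq' => hu q' ?_⟩
  · rintro T ⟨⟨x, s⟩, t⟩ _ ⟨⟨hx, hs⟩, hst⟩
    change t ≫ y' = s at hst
    subst hst
    exact hq T x hx t (by rw [← hs, Category.assoc])
  · intro T x hx t ht
    exact hq' T ((x, t ≫ y'), t) trivial ⟨⟨hx, by rw [Category.assoc, ht]⟩, rfl⟩

/-- Universal corepresentability is invariant under isomorphism of the target. -/
theorem of_iso (h : UnivBest φ) {M' : Over S} (e : M ≅ M') (φ' : F.Hom ⊤ M')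
    (he : ∀ (T : Over S) (x : F.Fam T) (hx : F.ok T x), φ'.app T x trivial hx = φ.app T x trivial hx ≫ e.hom) :
    UnivBest φ' := by
  intro Y y N ψ
  have key : ∀ {T : Over S} {x : F.Fam T} (hx : F.ok T x) (t : T ⟶ Y),
      t ≫ y = φ'.app T x trivial hx ↔ t ≫ y ≫ e.inv = φ.app T x trivial hx := by
    intro T x hx t
    rw [he, ← Category.assoc, ← cancel_mono e.inv (g := t ≫ y), Category.assoc _ e.hom, e.hom_inv_id,
      Category.comp_id]
  obtain ⟨q, hq, hu⟩ := h.desc (y ≫ e.inv) (N := N)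
    (fun T x hx t ht => ψ.app T (x, t) trivial ⟨hx, (key hx t).2 ht⟩)
    (fun g x hx hx' t ht ht' => ψ.natural g (x, t) trivial trivial _ _)
    (fun x x' hx hx' t ht ht' hr => ψ.resp _ _ trivial _ _ ⟨hr, rfl⟩)
  refine ⟨q, ?_, fun q' hq' => hu q' ?_⟩
  · rintro T ⟨x, t⟩ _ ⟨hx, ht⟩
    exact hq T x hx t ((key hx t).1 ht)
  · intro T x hx t ht
    exact hq' T (x, t) trivial ⟨hx, (key hx t).2 ht⟩

end UnivBest

/-- Two best approximations of the same problem are isomorphic. -/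
theorem exists_iso {F : ModFun.Problem.{u + 1} S} {M M' : Over S} {φ : F.Hom ⊤ M} {φ' : F.Hom ⊤ M'}
    (h : ModFun.IsBestApprox ⊤ F M φ) (h' : ModFun.IsBestApprox ⊤ F M' φ') :
    ∃ e : M ≅ M', ∀ (T : Over S) (x : F.Fam T) (hx : F.ok T x),
      φ'.app T x trivial hx = φ.app T x trivial hx ≫ e.hom := by
  obtain ⟨a, ha, -⟩ := h M' φ'
  obtain ⟨b, hb, -⟩ := h' M φ
  refine ⟨⟨a, b, ?_, ?_⟩, fun T x hx => ha T x trivial hx⟩
  · obtain ⟨c, -, hc⟩ := h M φ
    rw [hc (a ≫ b) (fun T x hT hx => by rw [← Category.assoc, ← ha T x hT hx, ← hb T x hT hx]),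
      ← hc (𝟙 M) (fun T x hT hx => (Category.comp_id _).symm)]
  · obtain ⟨c, -, hc⟩ := h' M' φ'
    rw [hc (b ≫ a) (fun T x hT hx => by rw [← Category.assoc, ← hb T x hT hx, ← ha T x hT hx]),
      ← hc (𝟙 M') (fun T x hT hx => (Category.comp_id _).symm)]

/-- If one best approximation is universal, all are. -/
theorem UnivBest.of_best {M' : Over S} {φ' : F.Hom ⊤ M'} (h : UnivBest φ) (h' : ModFun.IsBestApprox ⊤ F M' φ') :
    UnivBest φ' := by
  obtain ⟨e, he⟩ := exists_iso h.best h'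
  exact h.of_iso e φ' he

section sub

variable {F₀ : ModFun.Problem.{u + 1} S} {Q Q' : ∀ T : Over S, F₀.Fam T → Prop} (φ₀ : (F₀.restrict Q).Hom ⊤ M)
  {Y : Over S} (y : Y ⟶ M) [Mono y]

/-- The classifying map of a sub-problem to the monomorphism it factors through. -/
noncomputable def subHom (hQ : ∀ (T : Over S) (x : F₀.Fam T), (F₀.restrict Q').ok T x →
    ∃ (hx : (F₀.restrict Q).ok T x) (t : T ⟶ Y), t ≫ y = φ₀.app T x trivial hx) : (F₀.restrict Q').Hom ⊤ Y where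
  app T x _ hx := (hQ T x hx).choose_spec.choose
  natural := by
    intro T T' g x _ _ hx hx'
    rw [← cancel_mono y, (hQ _ _ hx').choose_spec.choose_spec, Category.assoc, (hQ _ _ hx).choose_spec.choose_spec]
    exact φ₀.natural g x trivial trivial _ _
  resp := by
    intro T x x' _ hx hx' hr
    rw [← cancel_mono y, (hQ _ _ hx).choose_spec.choose_spec, (hQ _ _ hx').choose_spec.choose_spec]
    exact φ₀.resp x x' trivial _ _ hr

theorem subHom_comp (hQ : ∀ (T : Over S) (x : F₀.Fam T), (F₀.restrict Q').ok T x →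
    ∃ (hx : (F₀.restrict Q).ok T x) (t : T ⟶ Y), t ≫ y = φ₀.app T x trivial hx) {T : Over S} {x : F₀.Fam T}
    (hx' : (F₀.restrict Q').ok T x) (hx : (F₀.restrict Q).ok T x) :
    (subHom φ₀ y hQ).app T x trivial hx' ≫ y = φ₀.app T x trivial hx :=
  (hQ T x hx').choose_spec.choose_spec

/-- The sub-problem cut out by a monomorphism is universally corepresented. -/
theorem UnivBest.sub (h : UnivBest φ₀) (hQ : ∀ (T : Over S) (x : F₀.Fam T), (F₀.restrict Q').ok T x →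
    ∃ (hx : (F₀.restrict Q).ok T x) (t : T ⟶ Y), t ≫ y = φ₀.app T x trivial hx)
    (hQ' : ∀ (T : Over S) (x : F₀.Fam T) (hx : (F₀.restrict Q).ok T x) (t : T ⟶ Y),
      t ≫ y = φ₀.app T x trivial hx → (F₀.restrict Q').ok T x) :
    UnivBest (subHom φ₀ y hQ) := by
  intro Y' y' N ψ
  have key : ∀ {T : Over S} {x : F₀.Fam T} (hx' : (F₀.restrict Q').ok T x) (hx : (F₀.restrict Q).ok T x)
      (t : T ⟶ Y'), t ≫ y' = (subHom φ₀ y hQ).app T x trivial hx' ↔ t ≫ y' ≫ y = φ₀.app T x trivial hx := by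
    intro T x hx' hx t
    rw [← cancel_mono y, subHom_comp φ₀ y hQ hx' hx, Category.assoc]
  have ok' : ∀ {T : Over S} {x : F₀.Fam T} (hx : (F₀.restrict Q).ok T x) (t : T ⟶ Y'),
      t ≫ y' ≫ y = φ₀.app T x trivial hx → (F₀.restrict Q').ok T x := fun hx t ht =>
    hQ' _ _ hx (t ≫ y') ((Category.assoc _ _ _).trans ht)
  obtain ⟨q, hq, hu⟩ := h.desc (y' ≫ y) (N := N)
    (fun T x hx t ht => ψ.app T (x, t) trivial ⟨ok' hx t ht, (key _ hx t).2 ht⟩)
    (fun g x hx hx' t ht ht' => ψ.natural g (x, t) trivial trivial _ _)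
    (fun x x' hx hx' t ht ht' hr => ψ.resp _ _ trivial _ _ ⟨hr, rfl⟩)
  refine ⟨q, ?_, fun q' hq' => hu q' ?_⟩
  · rintro T ⟨x, t⟩ _ ⟨hx', ht⟩
    obtain ⟨hx, -⟩ := hQ T x hx'
    exact hq T x hx t ((key hx' hx t).1 ht)
  · intro T x hx t ht
    exact hq' T (x, t) trivial ⟨ok' hx t ht, (key _ hx t).2 ht⟩

end sub

section eqv

/-- An equivalence of moduli problems up to the identifications. -/
structure Eqv (F G : ModFun.Problem.{u + 1} S) where
  /-- the operation on families -/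
  fwd : ∀ {T : Over S}, F.Fam T → G.Fam T
  /-- the inverse operation -/
  inv : ∀ {T : Over S}, G.Fam T → F.Fam T
  ok_to : ∀ {T : Over S} (x : F.Fam T), F.ok T x → G.ok T (fwd x)
  ok_inv : ∀ {T : Over S} (x : G.Fam T), G.ok T x → F.ok T (inv x)
  ok_pull : ∀ {T T' : Over S} (g : T' ⟶ T) (x : F.Fam T), F.ok T x → F.ok T' (F.pull g x)
  ok_pull' : ∀ {T T' : Over S} (g : T' ⟶ T) (x : G.Fam T), G.ok T x → G.ok T' (G.pull g x)
  pull_to : ∀ {T T' : Over S} (g : T' ⟶ T) (x : F.Fam T), F.ok T x → G.r T' (G.pull g (fwd x)) (fwd (F.pull g x))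
  pull_inv : ∀ {T T' : Over S} (g : T' ⟶ T) (x : G.Fam T), G.ok T x → F.r T' (F.pull g (inv x)) (inv (G.pull g x))
  resp_to : ∀ {T : Over S} (x x' : F.Fam T), F.ok T x → F.ok T x' → F.r T x x' → G.r T (fwd x) (fwd x')
  resp_inv : ∀ {T : Over S} (x x' : G.Fam T), G.ok T x → G.ok T x' → G.r T x x' → F.r T (inv x) (inv x')
  to_inv : ∀ {T : Over S} (x : G.Fam T), G.ok T x → G.r T (fwd (inv x)) x
  inv_to : ∀ {T : Over S} (x : F.Fam T), F.ok T x → F.r T (inv (fwd x)) x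

variable {G : ModFun.Problem.{u + 1} S}

/-- The inverse equivalence. -/
def Eqv.symm (a : Eqv F G) : Eqv G F where
  fwd := a.inv
  inv := a.fwd
  ok_to := a.ok_inv
  ok_inv := a.ok_to
  ok_pull := a.ok_pull'
  ok_pull' := a.ok_pull
  pull_to := a.pull_inv
  pull_inv := a.pull_to
  resp_to := a.resp_inv
  resp_inv := a.resp_to
  to_inv := a.inv_to
  inv_to := a.to_inv

/-- Transport of a classifying map along an equivalence of problems. -/
def Eqv.hom (a : Eqv F G) (φ : F.Hom ⊤ M) : G.Hom ⊤ M where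
  app T x _ hx := φ.app T (a.inv x) trivial (a.ok_inv x hx)
  natural g x _ _ hx hx' := by
    rw [← φ.natural g (a.inv x) trivial trivial (a.ok_inv x hx) (a.ok_pull g _ (a.ok_inv x hx))]
    exact (φ.resp _ _ trivial _ _ (a.pull_inv g x hx)).symm
  resp x x' _ hx hx' hr := φ.resp _ _ trivial _ _ (a.resp_inv x x' hx hx' hr)

theorem Eqv.hom_app (a : Eqv F G) (φ : F.Hom ⊤ M) {T : Over S} (x : G.Fam T) (hx : G.ok T x) :
    (a.hom φ).app T x trivial hx = φ.app T (a.inv x) trivial (a.ok_inv x hx) := rfl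

theorem Eqv.hom_app_to (a : Eqv F G) (φ : F.Hom ⊤ M) {T : Over S} (x : F.Fam T) (hx : F.ok T x) :
    (a.hom φ).app T (a.fwd x) trivial (a.ok_to x hx) = φ.app T x trivial hx :=
  φ.resp _ _ trivial _ _ (a.inv_to x hx)

theorem UnivBest.eqv (h : UnivBest φ) (a : Eqv F G) : UnivBest (a.hom φ) := by
  intro Y y N ψ
  obtain ⟨q, hq, hu⟩ := h.desc y (N := N)
    (fun T x hx t ht => ψ.app T (a.fwd x, t) trivial ⟨a.ok_to x hx, by rw [ht, a.hom_app_to]⟩)
    (fun {T T'} g x hx hx' t ht ht' => by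
      have h0 : (bc (a.hom φ) y).ok T (a.fwd x, t) := ⟨a.ok_to x hx, by rw [ht, a.hom_app_to]⟩
      have h1 : (bc (a.hom φ) y).ok T' ((bc (a.hom φ) y).pull g (a.fwd x, t)) := by
        refine ⟨a.ok_pull' g _ (a.ok_to x hx), ?_⟩
        change (g ≫ t) ≫ y = _
        rw [Category.assoc, ht, ← a.hom_app_to φ x hx]
        exact ((a.hom φ).natural g (a.fwd x) trivial trivial _ _).symm
      rw [← ψ.natural g (a.fwd x, t) trivial trivial h0 h1]
      exact (ψ.resp (G.pull g (a.fwd x), g ≫ t) (a.fwd (F.pull g x), g ≫ t) trivial h1 _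
        ⟨a.pull_to g x hx, rfl⟩).symm)
    (fun x x' hx hx' t ht ht' hr => ψ.resp _ _ trivial _ _ ⟨a.resp_to x x' hx hx' hr, rfl⟩)
  refine ⟨q, ?_, fun q' hq' => hu q' ?_⟩
  · rintro T ⟨x, t⟩ _ ⟨hx, ht⟩
    change ψ.app T (x, t) trivial ⟨hx, ht⟩ = t ≫ q
    rw [← hq T (a.inv x) (a.ok_inv x hx) t ht]
    exact (ψ.resp (a.fwd (a.inv x), t) (x, t) trivial _ _ ⟨a.to_inv x hx, rfl⟩).symm
  · intro T x hx t ht
    exact hq' T (a.fwd x, t) trivial ⟨a.ok_to x hx, by rw [ht, a.hom_app_to]⟩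

theorem best_eqv (h : ModFun.IsBestApprox ⊤ F M φ) (a : Eqv F G) : ModFun.IsBestApprox ⊤ G M (a.hom φ) := by
  intro N ψ
  obtain ⟨q, hq, hu⟩ := h N (a.symm.hom ψ)
  refine ⟨q, fun T x _ hx => ?_, fun q' hq' => hu q' fun T x _ hx => ?_⟩
  · rw [a.hom_app, ← hq T (a.inv x) trivial (a.ok_inv x hx), a.symm.hom_app]
    exact (ψ.resp _ _ trivial _ _ (a.to_inv x hx)).symm
  · rw [a.symm.hom_app, hq' T _ trivial (a.symm.ok_inv x hx)]
    change (a.hom φ).app T (a.fwd x) trivial (a.ok_to x hx) ≫ q' = _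
    rw [a.hom_app_to]

end eqv

end K757.HomOver
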