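import Groth.Agent.BunMod.K757.SubDet
import Groth.Agent.Grpsch.MulFin
import Groth.Agent.RedSub.H650.ValAC

/-!
# The moduli space with fixed determinant `L₀` as a fibre of the determinant; roots

* `qmap`, `isPullback_qmap`, `root_qmap`: for a fibre `M'` of `dm : M ⟶ J` over `l ^ r` the map
  `q : M' ⊗ J ⟶ M`, `(m, ξ) ↦ (ξ l⁻¹) • m` is the base change of `[r]`, and `q (m, l) = m`;
* `exists_fibre`: a best approximation `(M', φ')` of `USSdet f r L₀` is the fibre of `dm : M ⟶ J` over the point of `L₀`;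
* `exists_root`: `r`-th roots of line bundles of degree `0`.
-/

set_option autoImplicit false
universe u
open CategoryTheory CategoryTheory.Limits AlgebraicGeometry MonoidalCategory CartesianMonoidalCategory MonObj

namespace K757.Root

open Groth.Agent K757.HomOver K757.Act

section formal

variable {S : Scheme.{u}} {F : ModFun.Problem.{u + 1} S} {M : Over S} {φ : F.Hom ⊤ M} (h : UnivBest φ) {J : Over S}
  [GrpObj J] (a : Twist F J) (r : ℕ) (dm : M ⟶ J)
  (hdm : ∀ (T : Over S) (x : F.Fam T) (hx : F.ok T x) (l : T ⟶ J),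
    φ.app T (a.tw l x) trivial (a.ok_tw l x hx) ≫ dm = l ^ r * (φ.app T x trivial hx ≫ dm))
  {M' : Over S} (i : M' ⟶ M) (l₀ l : 𝟙_ (Over S) ⟶ J) (hl : l ^ r = l₀)
  (hi : IsPullback i (toUnit M') dm l₀)

/-- The map `(m, ξ) ↦ (ξ l⁻¹) • m`. -/
noncomputable def qmap : M' ⊗ J ⟶ M :=
  smul h a (CartesianMonoidalCategory.snd M' J * (toUnit _ ≫ l)⁻¹) (CartesianMonoidalCategory.fst M' J ≫ i)

theorem lift_qmap {T : Over S} (m : T ⟶ M') (ξ : T ⟶ J) :
    lift m ξ ≫ qmap h a i l = smul h a (ξ * (toUnit T ≫ l)⁻¹) (m ≫ i) := by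
  have h1 : lift m ξ ≫ toUnit (M' ⊗ J) ≫ l = toUnit T ≫ l := by
    rw [← Category.assoc]
    congr 1
    exact toUnit_unique _ _
  rw [qmap, comp_smul, comp_mul, GrpObj.comp_inv, lift_snd, h1, ← Category.assoc (lift m ξ), lift_fst]

omit [GrpObj J] in
include hi in
theorem comp_dm {T : Over S} (t : T ⟶ M') : (t ≫ i) ≫ dm = toUnit T ≫ l₀ := by
  rw [Category.assoc, hi.w, ← Category.assoc]
  congr 1
  exact toUnit_unique _ _

include hi hl hdm in
/-- The square over multiplication by `r`, for the fibre over `l₀ = l ^ r`. -/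
theorem isPullback_qmap [IsCommMonObj J] :
    IsPullback (qmap h a i l) (CartesianMonoidalCategory.snd M' J) dm ((𝟙 J) ^ r) := by
  have hpow : ∀ {T : Over S}, (toUnit T ≫ l) ^ r = toUnit T ≫ l₀ := fun {T} => by rw [← hl, comp_pow]
  have hw : qmap h a i l ≫ dm = CartesianMonoidalCategory.snd M' J ≫ (𝟙 J) ^ r := by
    rw [qmap, smul_dm h a r dm hdm, comp_dm dm i l₀ hi, mul_pow, inv_pow, hpow, inv_mul_cancel_right, comp_pow,
      Category.comp_id]
  refine ⟨⟨hw⟩, ⟨PullbackCone.IsLimit.mk _ (fun s => ?_) (fun s => ?_) (fun s => ?_) (fun s m h1 h2 => ?_)⟩⟩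
  · refine lift (hi.lift (smul h a (s.snd * (toUnit _ ≫ l)⁻¹)⁻¹ s.fst) (toUnit _) ?_) s.snd
    rw [smul_dm h a r dm hdm, s.condition, comp_pow, Category.comp_id, inv_pow, mul_pow, inv_pow, hpow, mul_inv,
      inv_inv, mul_comm (s.snd ^ r)⁻¹, inv_mul_cancel_right]
  · rw [lift_qmap, IsPullback.lift_fst, ← mul_smul, mul_inv_cancel, Act.one_smul]
  · exact lift_snd _ _
  · have h3 : m = lift (m ≫ CartesianMonoidalCategory.fst M' J) s.snd := by
      apply CartesianMonoidalCategory.hom_ext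
      · rw [lift_fst]
      · rw [lift_snd, h2]
    rw [h3]
    congr 1
    refine hi.hom_ext ?_ (toUnit_unique _ _)
    rw [IsPullback.lift_fst, ← h1, h3, lift_qmap, lift_fst, ← mul_smul, inv_mul_cancel, Act.one_smul]

theorem root_qmap : lift (𝟙 M') (toUnit M' ≫ l) ≫ qmap h a i l = i := by
  rw [lift_qmap, mul_inv_cancel, Act.one_smul, Category.id_comp]

end formal

section geo

open K757.Fam K757.Geo K757.TwistUSS K757.DetM0 K757.SubDet

variable {k : Type u} [Field k] {X : Scheme.{u}} {f : X ⟶ Spec (CommRingCat.of k)}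
  {J : Over (Spec (CommRingCat.of k))} (ψ : (ModFun.PicDeg f 0).Hom ⊤ J)
  {L₀ : X.Modules} (hL : ∀ T : Over (Spec (CommRingCat.of k)), (ModFun.PicDeg f 0).ok T (cst f T L₀))

/-- The point of `L₀`. -/
noncomputable def ptJ : 𝟙_ (Over (Spec (CommRingCat.of k))) ⟶ J :=
  ψ.app _ (cst f (𝟙_ (Over (Spec (CommRingCat.of k)))) L₀) trivial (hL _)

theorem toUnit_ptJ (T : Over (Spec (CommRingCat.of k))) :
    toUnit T ≫ ptJ ψ hL = ψ.app T (cst f T L₀) trivial (hL T) := by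
  have h1 := ψ.natural (toUnit T) (cst f (𝟙_ (Over (Spec (CommRingCat.of k)))) L₀) trivial trivial (hL _)
    (picDeg_pull (toUnit T) (hL _))
  rw [ptJ, ← h1]
  exact ψ.resp _ _ trivial _ _ (r_of_iso _ (pl_cst _ _ _))

variable {ψ} [GrpObj J] (FJ : FineJ f J ψ)
  {r : ℕ} {M : Over (Spec (CommRingCat.of k))} {φ : (BunMod.USS f r 0).Hom ⊤ M} {dm : M ⟶ J}
  (hdm : BunMod.IsDetMap f (BunMod.ussOK f r 0) φ 0 ψ dm)

include FJ hdm in
/-- The determinant of a family is `L₀` exactly when its classifying morphism is constant. -/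
theorem dm_eq_pt_iff [IsProper f] (hdim : topologicalKrullDim X = 1) {T : Over (Spec (CommRingCat.of k))}
    {E : (PicF.XT f T).Modules} (hE : (BunMod.USS f r 0).ok T E) :
    φ.app T E trivial hE ≫ dm = toUnit T ≫ ptJ ψ hL ↔ ModFun.DetIs f r L₀ T E := by
  obtain ⟨D, hDi, hD⟩ := exists_det hE.2.1
  have hDok := picDeg_det hdim hE.2 hD
  rw [dm_eq hdm hE hD hDok, toUnit_ptJ, FJ.psi_eq_iff hDok (hL T), detIs_iff hD]
  exact ⟨r_symm, r_symm⟩

include hL in
/-- Families with determinant `L₀` of degree `0`. -/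
theorem ussDetOK_iff [IsProper f] (hdim : topologicalKrullDim X = 1) {T : Over (Spec (CommRingCat.of k))}
    {E : (PicF.XT f T).Modules} :
    BunMod.ussDetOK f r L₀ T E ↔ BunMod.ussOK f r 0 T E ∧ ModFun.DetIs f r L₀ T E := by
  constructor
  · rintro ⟨h1, h2, h3⟩
    refine ⟨⟨h1, ?_, h3⟩, h2⟩
    obtain ⟨D, hD, h2⟩ := h2
    exact (fibDeg_det_iff hdim h1 hD).1 (picDeg_ok_iff.1 (picDeg_r h2 (hL T))).2
  · rintro ⟨⟨h1, h2, h3⟩, h4⟩
    exact ⟨h1, h4, h3⟩

variable {M' : Over (Spec (CommRingCat.of k))} {φ' : (BunMod.USSdet f r L₀).Hom ⊤ M'}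

include FJ hdm in
/-- The fibre of `dm` over the point of `L₀` corepresents the families with determinant `L₀` universally. -/
theorem univBest_fibre [IsProper f] (hdim : topologicalKrullDim X = 1) (hφ : UnivBest φ)
    {W : Over (Spec (CommRingCat.of k))} (w : W ⟶ M) (hw : IsPullback w (toUnit W) dm (ptJ ψ hL)) :
    ∃ φW : (BunMod.USSdet f r L₀).Hom ⊤ W, UnivBest φW ∧
      ∀ (T : Over (Spec (CommRingCat.of k))) (E : (PicF.XT f T).Modules) (hE : (BunMod.USSdet f r L₀).ok T E)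
        (hE' : (BunMod.USS f r 0).ok T E), φW.app T E trivial hE ≫ w = φ.app T E trivial hE' := by
  have hmono : Mono w := by
    have : Mono (ptJ ψ hL) := ⟨fun a b _ => toUnit_unique a b⟩
    exact (MorphismProperty.monomorphisms _).of_isPullback hw.flip this
  have hQ : ∀ (T : Over (Spec (CommRingCat.of k))) (E : (ModFun.modProb f).Fam T),
      ((ModFun.modProb f).restrict (BunMod.ussDetOK f r L₀)).ok T E →
      ∃ (hx : ((ModFun.modProb f).restrict (BunMod.ussOK f r 0)).ok T E) (t : T ⟶ W),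
        t ≫ w = φ.app T E trivial hx := by
    intro T E hE
    obtain ⟨h1, h2⟩ := (ussDetOK_iff hL hdim).1 hE.2
    exact ⟨⟨trivial, h1⟩, hw.lift _ (toUnit T) ((dm_eq_pt_iff hL FJ hdm hdim ⟨trivial, h1⟩).2 h2), hw.lift_fst _ _ _⟩
  refine ⟨subHom φ w hQ, hφ.sub φ w hQ ?_, fun T E hE hE' => subHom_comp φ w hQ hE hE'⟩
  intro T E hx t ht
  refine ⟨trivial, (ussDetOK_iff hL hdim).2 ⟨hx.2, (dm_eq_pt_iff hL FJ hdm hdim hx).1 ?_⟩⟩
  rw [← ht]
  exact comp_dm dm w _ hw t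

include FJ hdm in
/-- A best approximation of the problem with determinant `L₀` is the fibre of the determinant over `[L₀]`. -/
theorem exists_fibre [IsProper f] (hdim : topologicalKrullDim X = 1) (hφ : UnivBest φ)
    (h' : ModFun.IsBestApprox ⊤ (BunMod.USSdet f r L₀) M' φ') :
    ∃ i : M' ⟶ M, IsPullback i (toUnit M') dm (ptJ ψ hL) ∧
      ∀ (T : Over (Spec (CommRingCat.of k))) (E : (PicF.XT f T).Modules) (hE : (BunMod.USSdet f r L₀).ok T E)
        (hE' : (BunMod.USS f r 0).ok T E), φ'.app T E trivial hE ≫ i = φ.app T E trivial hE' := by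
  have hp : IsPullback (pullback.fst dm (ptJ ψ hL)) (toUnit (pullback dm (ptJ ψ hL))) dm (ptJ ψ hL) := by
    have h1 := IsPullback.of_hasPullback dm (ptJ ψ hL)
    rwa [toUnit_unique (pullback.snd dm (ptJ ψ hL)) (toUnit (pullback dm (ptJ ψ hL)))] at h1
  obtain ⟨φW, hW, hW'⟩ := univBest_fibre hL FJ hdm hdim hφ _ hp
  obtain ⟨e, he⟩ := exists_iso h' hW.best
  refine ⟨e.hom ≫ pullback.fst dm (ptJ ψ hL), ?_, fun T E hE hE' => ?_⟩
  · refine IsPullback.of_iso hp e.symm (Iso.refl _) (Iso.refl _) (Iso.refl _) ?_ (toUnit_unique _ _) ?_ ?_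
    · simp
    · simp
    · simp
  · rw [← Category.assoc, ← he T E hE]
    exact hW' T E hE hE'

end geo

section root

open K757.Fam K757.Geo K757.TwistUSS K757.DetM0 K757.SubDet

/-- Rational points lift along surjective morphisms. -/
theorem exists_lift_pt {k : Type u} [Field k] [IsAlgClosed k] {A B : Over (Spec (CommRingCat.of k))} (g : A ⟶ B)
    [Surjective g.left] [LocallyOfFiniteType g.left] (y : 𝟙_ (Over (Spec (CommRingCat.of k))) ⟶ B) :
    ∃ x : 𝟙_ (Over (Spec (CommRingCat.of k))) ⟶ A, x ≫ g = y := by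
  obtain ⟨x, hx⟩ := RedSub.H650.ValAC.exists_lift_pt g.left k y.left
  have hw : x ≫ A.hom = 𝟙 _ := by
    rw [← Over.w g, ← Category.assoc, hx]
    exact Over.w y
  exact ⟨Over.homMk x hw, Over.OverMorphism.ext hx⟩

variable {k : Type u} [Field k] {X : Scheme.{u}} {f : X ⟶ Spec (CommRingCat.of k)}

/-- The curve as the base change along the identity. -/
noncomputable def secT (f : X ⟶ Spec (CommRingCat.of k)) : X ⟶ PicF.XT f (𝟙_ (Over (Spec (CommRingCat.of k)))) :=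
  pullback.lift (𝟙 X) f (by
    change 𝟙 X ≫ f = f ≫ 𝟙 _
    rw [Category.id_comp, Category.comp_id])

theorem secT_fst : secT f ≫ pullback.fst f (𝟙_ (Over (Spec (CommRingCat.of k)))).hom = 𝟙 X := pullback.lift_fst _ _ _

theorem fst_secT : pullback.fst f (𝟙_ (Over (Spec (CommRingCat.of k)))).hom ≫ secT f = 𝟙 _ := by
  apply pullback.hom_ext
  · rw [Category.assoc, secT_fst, Category.comp_id, Category.id_comp]
  · rw [Category.assoc, secT, pullback.lift_snd, pullback.condition, Category.id_comp]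
    exact Category.comp_id _

/-- Every bundle over the point is constant. -/
theorem cst_secT (E : (PicF.XT f (𝟙_ (Over (Spec (CommRingCat.of k))))).Modules) :
    Nonempty (cst f (𝟙_ (Over (Spec (CommRingCat.of k)))) ((Scheme.Modules.pullback (secT f)).obj E) ≅ E) := by
  obtain ⟨e1⟩ := pull_comp (pullback.fst f (𝟙_ (Over (Spec (CommRingCat.of k)))).hom) (secT f) E
  obtain ⟨e2⟩ := pull_hom_congr fst_secT E
  obtain ⟨e3⟩ := pull_id E
  exact ⟨e1.symm ≪≫ e2 ≪≫ e3⟩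

theorem secT_cst (L : X.Modules) :
    Nonempty ((Scheme.Modules.pullback (secT f)).obj (cst f (𝟙_ (Over (Spec (CommRingCat.of k)))) L) ≅ L) := by
  obtain ⟨e1⟩ := pull_comp (secT f) (pullback.fst f (𝟙_ (Over (Spec (CommRingCat.of k)))).hom) L
  obtain ⟨e2⟩ := pull_hom_congr (secT_fst (f := f)) L
  obtain ⟨e3⟩ := pull_id L
  exact ⟨e1.symm ≪≫ e2 ≪≫ e3⟩

/-- Constant families over the point, identified in the sense of the moduli problem, are isomorphic. -/
theorem iso_of_r_cst {L L' : X.Modules} (h : (ModFun.modProb f).r (𝟙_ (Over (Spec (CommRingCat.of k))))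
    (cst f (𝟙_ (Over (Spec (CommRingCat.of k)))) L) (cst f (𝟙_ (Over (Spec (CommRingCat.of k)))) L')) :
    Nonempty (L ≅ L') := by
  obtain ⟨e⟩ := iso_of_r (f := f) (s := 𝟙 (Spec (CommRingCat.of k))) h
  obtain ⟨e1⟩ := secT_cst (f := f) L
  obtain ⟨e2⟩ := secT_cst (f := f) L'
  exact ⟨e1.symm ≪≫ (Scheme.Modules.pullback (secT f)).mapIso e ≪≫ e2⟩

variable {J : Over (Spec (CommRingCat.of k))} {ψ : (ModFun.PicDeg f 0).Hom ⊤ J} [GrpObj J] (FJ : FineJ f J ψ)

include FJ in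
/-- Points of `J` are line bundles of degree `0`. -/
theorem exists_bundle (l : 𝟙_ (Over (Spec (CommRingCat.of k))) ⟶ J) :
    ∃ (R : X.Modules) (hR : ∀ T : Over (Spec (CommRingCat.of k)), (ModFun.PicDeg f 0).ok T (cst f T R)),
      PicF.IsInvertible R ∧ ptJ ψ hR = l := by
  have h0 := cst_secT (f := f) (FJ.at' l)
  have h1 : PicF.IsInvertible ((Scheme.Modules.pullback (secT f)).obj (FJ.at' l)) := inv_pull _ (FJ.inv_at l)
  have h2 : (ModFun.PicDeg f 0).ok (𝟙_ (Over (Spec (CommRingCat.of k)))) (cst f _ ((Scheme.Modules.pullback (secT f)).obj (FJ.at' l))) :=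
    picDeg_r (r_of_iso f (by obtain ⟨e⟩ := h0; exact ⟨e.symm⟩)) (FJ.ok_at l)
  have h3 : ∀ T : Over (Spec (CommRingCat.of k)),
      (ModFun.PicDeg f 0).ok T (cst f T ((Scheme.Modules.pullback (secT f)).obj (FJ.at' l))) := fun T =>
    picDeg_r (r_of_iso f (by
      obtain ⟨e⟩ := pl_cst f (toUnit T) ((Scheme.Modules.pullback (secT f)).obj (FJ.at' l))
      exact ⟨e⟩)) (picDeg_pull (toUnit T) h2)
  refine ⟨_, h3, h1, ?_⟩
  have h4 := FJ.psi_at l (FJ.ok_at l)
  rw [ptJ]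
  exact (ψ.resp _ _ trivial _ _ (r_of_iso f h0)).trans h4

variable [IsProper f] [Smooth f] [GeometricallyConnected f] (hdim : topologicalKrullDim X = 1)

include FJ hdim in
/-- Line bundles with the same point are isomorphic. -/
theorem iso_of_ptJ {L L' : X.Modules} {n : ℕ}
    (hL : ∀ T : Over (Spec (CommRingCat.of k)), (ModFun.PicDeg f 0).ok T (cst f T L))
    (hL' : ∀ T : Over (Spec (CommRingCat.of k)), (ModFun.PicDeg f 0).ok T (cst f T L'))
    (h : (ptJ ψ hL) ^ n = ptJ ψ hL') : Nonempty (CohB1.tensorPow L n ≅ L') := by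
  have h1 := FineJ.picDeg_pow hdim (hL (𝟙_ (Over (Spec (CommRingCat.of k))))) n
  rw [ptJ, ptJ, ← FJ.psi_pow hdim (hL _) n h1, FJ.psi_eq_iff h1 (hL' _)] at h
  exact iso_of_r_cst (f := f) (r_trans (r_of_iso f (pull_pow _ L n)) h)

include FJ hdim in
/-- `r`-th roots of line bundles of degree `0` over an algebraically closed field. -/
theorem exists_root [IsAlgClosed k] [IsProper J.hom] [GeometricallyIntegral J.hom] {r : ℕ} (hr : 1 ≤ r)
    {L₀ : X.Modules} (hL : ∀ T : Over (Spec (CommRingCat.of k)), (ModFun.PicDeg f 0).ok T (cst f T L₀)) :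
    ∃ (R : X.Modules) (hR : ∀ T : Over (Spec (CommRingCat.of k)), (ModFun.PicDeg f 0).ok T (cst f T R)),
      PicF.IsInvertible R ∧ (ptJ ψ hR) ^ r = ptJ ψ hL ∧ Nonempty (CohB1.tensorPow R r ≅ L₀) := by
  have hs := Grpsch.MulFin.surjective_pow J r hr
  have hf : LocallyOfFiniteType (𝟙 J ^ r : J ⟶ J).left := by
    have h1 : LocallyOfFiniteType ((𝟙 J ^ r : J ⟶ J).left ≫ J.hom) := by
      rw [Over.w]
      infer_instance
    exact locallyOfFiniteType_of_comp _ J.hom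
  obtain ⟨l, hl⟩ := exists_lift_pt (𝟙 J ^ r : J ⟶ J) (ptJ ψ hL)
  rw [comp_pow, Category.comp_id] at hl
  obtain ⟨R, hR, hRi, hRl⟩ := exists_bundle (f := f) FJ l
  rw [← hRl] at hl
  exact ⟨R, hR, hRi, hl, iso_of_ptJ FJ hdim hR hL hl⟩

end root

section pack

open K757.Fam K757.Geo K757.TwistUSS K757.DetM0 K757.SubDet

variable {k : Type u} [Field k] {X : Scheme.{u}} {f : X ⟶ Spec (CommRingCat.of k)}

theorem cst_mul (T : Over (Spec (CommRingCat.of k))) {A B C : X.Modules} (h : Nonempty (CohB1.tensorMod A B ≅ C)) :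
    Nonempty (CohB1.tensorMod (cst f T A) (cst f T B) ≅ cst f T C) := by
  obtain ⟨e1⟩ := pull_tens (pullback.fst f T.hom) A B
  obtain ⟨e2⟩ := pull_congr (pullback.fst f T.hom) h
  exact ⟨e1.symm ≪≫ e2⟩

theorem ok_one (T : Over (Spec (CommRingCat.of k))) : (ModFun.PicDeg f 0).ok T (cst f T (Coh.structureModule X)) :=
  picDeg_r (r_symm (r_of_iso f (pull_unit _))) picDeg_one

section grp

variable {J : Over (Spec (CommRingCat.of k))} [GrpObj J] {ψ : (ModFun.PicDeg f 0).Hom ⊤ J} (FJ : FineJ f J ψ)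

include FJ

theorem ptJ_mul {A B C : X.Modules} (hA : ∀ T : Over (Spec (CommRingCat.of k)), (ModFun.PicDeg f 0).ok T (cst f T A))
    (hB : ∀ T : Over (Spec (CommRingCat.of k)), (ModFun.PicDeg f 0).ok T (cst f T B))
    (hC : ∀ T : Over (Spec (CommRingCat.of k)), (ModFun.PicDeg f 0).ok T (cst f T C))
    (h : Nonempty (CohB1.tensorMod A B ≅ C)) : ptJ ψ hC = ptJ ψ hA * ptJ ψ hB :=
  FJ.mul _ _ _ _ _ _ _ (by obtain ⟨e⟩ := cst_mul (f := f) (𝟙_ (Over (Spec (CommRingCat.of k)))) h; exact ⟨e.symm⟩)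

theorem ptJ_one (h : ∀ T : Over (Spec (CommRingCat.of k)), (ModFun.PicDeg f 0).ok T (cst f T (Coh.structureModule X))) :
    ptJ ψ h = 1 := by
  rw [← FJ.psi_one picDeg_one, ptJ]
  exact ψ.resp _ _ trivial _ _ (r_of_iso f (pull_unit _))

theorem ptJ_inv {R R' : X.Modules} (hR : ∀ T : Over (Spec (CommRingCat.of k)), (ModFun.PicDeg f 0).ok T (cst f T R))
    (hR' : ∀ T : Over (Spec (CommRingCat.of k)), (ModFun.PicDeg f 0).ok T (cst f T R'))
    (hRR : Nonempty (CohB1.tensorMod R R' ≅ Coh.structureModule X)) : ptJ ψ hR' = (ptJ ψ hR)⁻¹ := by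
  rw [eq_inv_iff_mul_eq_one, ← ptJ_mul FJ hR' hR ok_one (by
    obtain ⟨e⟩ := hRR
    obtain ⟨e'⟩ := tens_comm R' R
    exact ⟨e' ≪≫ e⟩), ptJ_one FJ]

end grp

variable [IsProper f] [Smooth f] [GeometricallyConnected f] (hdim : topologicalKrullDim X = 1)

include hdim in
theorem ok_inv {R R' : X.Modules} (hR : ∀ T : Over (Spec (CommRingCat.of k)), (ModFun.PicDeg f 0).ok T (cst f T R))
    (hR' : PicF.IsInvertible R') (hRR : Nonempty (CohB1.tensorMod R R' ≅ Coh.structureModule X))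
    (T : Over (Spec (CommRingCat.of k))) : (ModFun.PicDeg f 0).ok T (cst f T R') := by
  have h := picDeg_inv hdim (hR T) (inv_pull _ hR') (by
    obtain ⟨e1⟩ := cst_mul (f := f) T hRR
    obtain ⟨e2⟩ := pull_unit (pullback.fst f T.hom)
    exact ⟨e1 ≪≫ e2⟩)
  rwa [neg_zero] at h

variable {J : Over (Spec (CommRingCat.of k))} [GrpObj J] {ψ : (ModFun.PicDeg f 0).Hom ⊤ J} (FJ : FineJ f J ψ)
  {r : ℕ} {M : Over (Spec (CommRingCat.of k))} {φ : (BunMod.USS f r 0).Hom ⊤ M} (hφ : UnivBest φ) {dm : M ⟶ J}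
  (hdm : BunMod.IsDetMap f (BunMod.ussOK f r 0) φ 0 ψ dm)
  {L₀ : X.Modules} (hL : ∀ T : Over (Spec (CommRingCat.of k)), (ModFun.PicDeg f 0).ok T (cst f T L₀))
  {M' : Over (Spec (CommRingCat.of k))} {φ' : (BunMod.USSdet f r L₀).Hom ⊤ M'}
  {i : M' ⟶ M} (hi' : ∀ (T : Over (Spec (CommRingCat.of k))) (E : (PicF.XT f T).Modules)
    (hE : (BunMod.USSdet f r L₀).ok T E) (hE' : (BunMod.USS f r 0).ok T E),
    φ'.app T E trivial hE ≫ i = φ.app T E trivial hE')
  {R R' : X.Modules} (hR : ∀ T : Over (Spec (CommRingCat.of k)), (ModFun.PicDeg f 0).ok T (cst f T R))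
  (hR' : ∀ T : Over (Spec (CommRingCat.of k)), (ModFun.PicDeg f 0).ok T (cst f T R'))
  (hRR : Nonempty (CohB1.tensorMod R R' ≅ Coh.structureModule X))

include hi' hL hR' hRR in
/-- The value of `q` on families: `(E, L) ↦ E ⊗ L ⊗ R⁻¹`. -/
theorem qmap_app {T : Over (Spec (CommRingCat.of k))} {E L : (PicF.XT f T).Modules}
    (hE : (BunMod.USSdet f r L₀).ok T E) (hL' : (ModFun.PicDeg f 0).ok T L)
    (h : (BunMod.USS f r 0).ok T (CohB1.tensorMod (CohB1.tensorMod E L) (cst f T R'))) :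
    lift (φ'.app T E trivial hE) (ψ.app T L trivial hL') ≫ qmap hφ (FJ.twist hdim r 0) i (ptJ ψ hR) =
      φ.app T (CohB1.tensorMod (CohB1.tensorMod E L) (cst f T R')) trivial h := by
  have h1 : (BunMod.USS f r 0).ok T E := ⟨trivial, ((ussDetOK_iff hL hdim).1 hE.2).1⟩
  rw [lift_qmap, hi' T E hE h1, smul_app, ← GrpObj.comp_inv, ← ptJ_inv FJ hR hR' hRR, toUnit_ptJ]
  apply φ.resp _ _ trivial
  have h2 : (ModFun.PicDeg f 0).ok T (CohB1.tensorMod L (cst f T R')) := by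
    have := picDeg_mul hdim hL' (hR' T)
    rwa [add_zero] at this
  have h3 : (ModFun.modProb f).r T (FJ.at' (ψ.app T L trivial hL' * ψ.app T (cst f T R') trivial (hR' T)))
      (CohB1.tensorMod L (cst f T R')) := by
    rw [← FJ.mul T _ _ _ hL' (hR' T) h2 ⟨Iso.refl _⟩]
    exact FJ.fine T _ h2
  refine r_trans (r_tens' h3 E) (r_of_iso f ?_)
  obtain ⟨e⟩ := tens_assoc E L (cst f T R')
  exact ⟨e.symm⟩

include hdim in
/-- Everything about the fibre over `[L₀]`, over an algebraically closed field. -/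
theorem exists_q [IsAlgClosed k] [IsCommMonObj J] [IsProper J.hom] [GeometricallyIntegral J.hom] (hr : 1 ≤ r)
    (FJ : FineJ f J ψ) (hφ : UnivBest φ) (hdm : BunMod.IsDetMap f (BunMod.ussOK f r 0) φ 0 ψ dm)
    (hL : ∀ T : Over (Spec (CommRingCat.of k)), (ModFun.PicDeg f 0).ok T (cst f T L₀))
    (h' : ModFun.IsBestApprox ⊤ (BunMod.USSdet f r L₀) M' φ') :
    ∃ (i : M' ⟶ M) (q : M' ⊗ J ⟶ M) (l : 𝟙_ (Over (Spec (CommRingCat.of k))) ⟶ J) (R R' : X.Modules),
      IsPullback q (CartesianMonoidalCategory.snd M' J) dm ((𝟙 J) ^ r) ∧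
      IsPullback i (toUnit M') dm (l ^ r) ∧ l ^ r = ptJ ψ hL ∧
      lift (𝟙 M') (toUnit M' ≫ l) ≫ q = i ∧
      (∀ (T : Over (Spec (CommRingCat.of k))) (E : (PicF.XT f T).Modules) (hE : (BunMod.USSdet f r L₀).ok T E)
        (hE' : (BunMod.USS f r 0).ok T E), φ'.app T E trivial hE ≫ i = φ.app T E trivial hE') ∧
      PicF.IsInvertible R ∧ PicF.IsInvertible R' ∧ Nonempty (CohB1.tensorMod R R' ≅ Coh.structureModule X) ∧
      (∀ T : Over (Spec (CommRingCat.of k)), (ModFun.PicDeg f 0).ok T (cst f T R')) ∧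
      (∃ hR : ∀ T : Over (Spec (CommRingCat.of k)), (ModFun.PicDeg f 0).ok T (cst f T R), ptJ ψ hR = l) ∧
      Nonempty (CohB1.tensorPow R r ≅ L₀) ∧
      ∀ (T : Over (Spec (CommRingCat.of k))) (E L : (PicF.XT f T).Modules)
        (hE : (BunMod.USSdet f r L₀).ok T E) (hL' : (ModFun.PicDeg f 0).ok T L)
        (h : (BunMod.USS f r 0).ok T (CohB1.tensorMod (CohB1.tensorMod E L) (cst f T R'))),
        lift (φ'.app T E trivial hE) (ψ.app T L trivial hL') ≫ q =
          φ.app T (CohB1.tensorMod (CohB1.tensorMod E L) (cst f T R')) trivial h := by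
  obtain ⟨i, hi, hi'⟩ := exists_fibre hL FJ hdm hdim hφ h'
  obtain ⟨R, hR, hRi, hRl, hRr⟩ := exists_root (f := f) FJ hdim hr hL
  obtain ⟨R', hR'i, hRR⟩ := Grpsch.PicGrp.exists_inverse hRi
  have hR' := ok_inv (f := f) hdim hR hR'i hRR
  have h1 : IsPullback i (toUnit M') dm (ptJ ψ hR ^ r) := by rw [hRl]; exact hi
  exact ⟨i, qmap hφ (FJ.twist hdim r 0) i (ptJ ψ hR), ptJ ψ hR, R, R',
    isPullback_qmap hφ (FJ.twist hdim r 0) r dm (fun _ _ hE l => dm_tw hdim FJ hdm hE l) i _ _ rfl h1, h1, hRl,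
    root_qmap _ _ _ _, hi', hRi, hR'i, hRR, hR', ⟨hR, rfl⟩, hRr,
    fun T E L hE hL' h => qmap_app hdim FJ hφ hL hi' hR hR' hRR hE hL' h⟩

include hdim in
/-- Trivial determinant: `q (E, L) = E ⊗ L` and `i = q (·, 1)`; any field. -/
theorem exists_q_one [IsCommMonObj J] (FJ : FineJ f J ψ) (hφ : UnivBest φ)
    (hdm : BunMod.IsDetMap f (BunMod.ussOK f r 0) φ 0 ψ dm)
    {φ' : (BunMod.USSdet f r (Coh.structureModule X)).Hom ⊤ M'}
    (h' : ModFun.IsBestApprox ⊤ (BunMod.USSdet f r (Coh.structureModule X)) M' φ') :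
    ∃ (i : M' ⟶ M) (q : M' ⊗ J ⟶ M),
      IsPullback q (CartesianMonoidalCategory.snd M' J) dm ((𝟙 J) ^ r) ∧
      IsPullback i (toUnit M') dm (1 : 𝟙_ (Over (Spec (CommRingCat.of k))) ⟶ J) ∧
      lift (𝟙 M') (1 : M' ⟶ J) ≫ q = i ∧
      (∀ (T : Over (Spec (CommRingCat.of k))) (E : (PicF.XT f T).Modules)
        (hE : (BunMod.USSdet f r (Coh.structureModule X)).ok T E)
        (hE' : (BunMod.USS f r 0).ok T E), φ'.app T E trivial hE ≫ i = φ.app T E trivial hE') ∧
      ∀ (T : Over (Spec (CommRingCat.of k))) (E L : (PicF.XT f T).Modules)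
        (hE : (BunMod.USSdet f r (Coh.structureModule X)).ok T E) (hL : (ModFun.PicDeg f 0).ok T L)
        (h : (BunMod.USS f r 0).ok T (CohB1.tensorMod E L)),
        lift (φ'.app T E trivial hE) (ψ.app T L trivial hL) ≫ q = φ.app T (CohB1.tensorMod E L) trivial h := by
  obtain ⟨i, hi, hi'⟩ := exists_fibre ok_one FJ hdm hdim hφ h'
  have h1 : IsPullback i (toUnit M') dm (ptJ ψ ok_one ^ r) := by
    rw [ptJ_one FJ, one_pow, ← ptJ_one FJ ok_one]
    exact hi
  have h2 : IsPullback i (toUnit M') dm (1 : 𝟙_ (Over (Spec (CommRingCat.of k))) ⟶ J) := by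
    rw [← ptJ_one FJ ok_one]
    exact hi
  have h3 : ∀ T : Over (Spec (CommRingCat.of k)), toUnit T ≫ ptJ ψ ok_one = 1 := fun T => by
    rw [ptJ_one FJ, comp_one]
  refine ⟨i, qmap hφ (FJ.twist hdim r 0) i (ptJ ψ ok_one),
    isPullback_qmap hφ (FJ.twist hdim r 0) r dm (fun _ _ hE l => dm_tw hdim FJ hdm hE l) i _ _ rfl h1, h2, ?_, hi',
    fun T E L hE hL h => ?_⟩
  · rw [← h3 M']
    exact root_qmap _ _ _ _
  · have h4 : (BunMod.USS f r 0).ok T E := ⟨trivial, ((ussDetOK_iff ok_one hdim).1 hE.2).1⟩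
    rw [lift_qmap, h3, inv_one, _root_.mul_one, hi' T E hE h4, smul_app]
    apply φ.resp _ _ trivial
    exact r_tens' (FJ.fine T L hL) E

end pack

section jac

open K757.Fam K757.Geo K757.TwistUSS K757.DetM0 K757.SubDet

variable {k : Type u} [Field k] [IsAlgClosed k] {X : Scheme.{u}} {f : X ⟶ Spec (CommRingCat.of k)}
  [IsProper f] [Smooth f] [GeometricallyConnected f] (hdim : topologicalKrullDim X = 1)

/-- A curve over an algebraically closed field has a rational point. -/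
theorem exists_pt (f : X ⟶ Spec (CommRingCat.of k)) [IsProper f] [Smooth f] [GeometricallyConnected f] :
    ∃ σ : Spec (CommRingCat.of k) ⟶ X, σ ≫ f = 𝟙 _ := by
  let _ : X.Over (Spec (CommRingCat.of k)) := ⟨f⟩
  have h1 : IsProper (X ↘ Spec (CommRingCat.of k)) := ‹IsProper f›
  have h2 : Smooth (X ↘ Spec (CommRingCat.of k)) := ‹Smooth f›
  have h3 : GeometricallyConnected (X ↘ Spec (CommRingCat.of k)) := ‹GeometricallyConnected f›
  have := K705.Setup.isIntegral_of_geomConn k X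
  obtain ⟨x, hx⟩ : ∃ x : X, IsClosed ({x} : Set X) := by
    have : CompactSpace X := QuasiCompact.compactSpace_of_compactSpace f
    obtain ⟨x, -, hx⟩ := IsClosed.exists_closed_singleton (S := (Set.univ : Set X)) isClosed_univ Set.univ_nonempty
    exact ⟨x, hx⟩
  obtain ⟨σ, hσ, -⟩ := Fga.JacFactor.exists_section_of_closed (Iso.refl (Spec (CommRingCat.of k))) f x hx
  exact ⟨σ, hσ⟩

variable {J : Over (Spec (CommRingCat.of k))} [GrpObj J] {ψ : (ModFun.PicDeg f 0).Hom ⊤ J}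

include hdim in
/-- The Jacobian carries a universal bundle and is a proper geometrically integral group. -/
theorem jac_props (hJ : Jac.IsJacobian f ⊤ J ψ) :
    Nonempty (FineJ f J ψ) ∧ IsProper J.hom ∧ GeometricallyIntegral J.hom := by
  obtain ⟨σ, hσ⟩ := exists_pt f
  have := K532.Base.smoothOfRelDim f hdim
  have hp := K914.Fine.isProper_of_coarse f σ hσ hJ.coarse
  refine ⟨exists_fineJ hdim σ hσ hJ, hp, ?_⟩
  obtain ⟨J₀, _, ξ₀, hp, hg, h₀⟩ := K914.Fine.exists_isJac f σ hσ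
  obtain ⟨e, -⟩ := K914.Fine.exists_iso h₀ hJ.coarse
  have h1 : J.hom = e.hom.left ≫ J₀.hom := (Over.w e.hom).symm
  have h2 : IsIso e.hom.left := inferInstanceAs (IsIso ((Over.forget _).map e.hom))
  rw [h1]
  exact (MorphismProperty.cancel_left_of_respectsIso @GeometricallyIntegral _ _).2 hg

variable {r : ℕ}

open Grpsch.PicGrp Fdesc.LocGen in
include hdim in
/-- The moduli spaces with determinants `O` and `L₀` of degree `0` are isomorphic by twisting with a root. -/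
theorem exists_iso_det (hJ : Jac.IsJacobian f ⊤ J ψ) (hr : 1 ≤ r) {L₀ : X.Modules}
    (hL : ∀ T : Over (Spec (CommRingCat.of k)), (ModFun.PicDeg f 0).ok T (cst f T L₀))
    {M₀ M' : Over (Spec (CommRingCat.of k))} {φ₀ : (BunMod.USSdet f r (Coh.structureModule X)).Hom ⊤ M₀}
    {φ' : (BunMod.USSdet f r L₀).Hom ⊤ M'}
    (h₀ : ModFun.IsBestApprox ⊤ (BunMod.USSdet f r (Coh.structureModule X)) M₀ φ₀)
    (h' : ModFun.IsBestApprox ⊤ (BunMod.USSdet f r L₀) M' φ') :
    ∃ (R : X.Modules) (e : M₀ ≅ M'), PicF.IsInvertible R ∧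
      (∀ T : Over (Spec (CommRingCat.of k)), (ModFun.PicDeg f 0).ok T (cst f T R)) ∧
      Nonempty (CohB1.tensorPow R r ≅ L₀) ∧
      ∀ (T : Over (Spec (CommRingCat.of k))) (E : (PicF.XT f T).Modules)
        (hE : (BunMod.USSdet f r (Coh.structureModule X)).ok T E)
        (hE' : (BunMod.USSdet f r L₀).ok T (CohB1.tensorMod E (cst f T R))),
        φ'.app T (CohB1.tensorMod E (cst f T R)) trivial hE' = φ₀.app T E trivial hE ≫ e.hom := by
  obtain ⟨⟨FJ⟩, _, _⟩ := jac_props (f := f) hdim hJ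
  obtain ⟨R, hR, hRi, hRl, ⟨eR⟩⟩ := exists_root (f := f) FJ hdim hr hL
  obtain ⟨R', hR'i, hRR⟩ := Grpsch.PicGrp.exists_inverse hRi
  have e1 : Nonempty (CohB1.tensorMod (Coh.structureModule X) (CohB1.tensorPow R r) ≅ L₀) := by
    obtain ⟨a⟩ := tens_comm (Coh.structureModule X) (CohB1.tensorPow R r)
    obtain ⟨b⟩ := tens_unit (CohB1.tensorPow R r)
    exact ⟨a ≪≫ b ≪≫ eR⟩
  have e2 : Nonempty (CohB1.tensorMod L₀ (CohB1.tensorPow R' r) ≅ Coh.structureModule X) := by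
    obtain ⟨a⟩ := tens_congr ⟨eR.symm⟩ ⟨Iso.refl (CohB1.tensorPow R' r)⟩
    have h1 : mk (CohB1.tensorMod (CohB1.tensorPow R r) (CohB1.tensorPow R' r))
        (isInvertible_tensorMod (isInvertible_tensorPow hRi r) (isInvertible_tensorPow hR'i r)) = 1 := by
      rw [← mk_mul_mk (isInvertible_tensorPow hRi r) (isInvertible_tensorPow hR'i r), mk_tensorPow hRi, mk_tensorPow hR'i, ← _root_.mul_pow, mk_mul_mk,
        (mk_eq_one_iff (isInvertible_tensorMod hRi hR'i)).2 hRR, one_pow]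
    obtain ⟨b⟩ := (mk_eq_one_iff _).1 h1
    exact ⟨a ≪≫ b⟩
  let a := detEqv (f := f) hdim (r := r) hRi hR'i hRR e1 e2
  obtain ⟨e, he⟩ := exists_iso (best_eqv h₀ a) h'
  refine ⟨R, e, hRi, hR, ⟨eR⟩, fun T E hE hE' => ?_⟩
  rw [he T _ hE']
  congr 1
  exact a.hom_app_to φ₀ E hE

end jac

end K757.Root
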