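import Groth.Prelude.Def_ModFun2
import Groth.Agent.Krr.H482.PullTens
import Groth.Agent.Fga.RigGrp

/-!
# Families of modules modulo twisting from the base

Basic laws of `ModFun.modProb f` for an arbitrary morphism `f : X ⟶ S`: functoriality of pull-back, the identification
`r` is an equivalence relation, compatible with pull-back and tensor products, and Zariski locally an isomorphism.
-/

set_option autoImplicit false
universe u
open CategoryTheory CategoryTheory.Limits AlgebraicGeometry MonoidalCategory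

namespace K757.Fam

open scoped Groth.Agent.Dcoh.MonCat
open Groth.Agent Groth.Agent.Krr.H482.PullTens Groth.Agent.Fga.RigGrp

section gen

variable {X Y Z : Scheme.{u}}

theorem tens_congr {A A' B B' : X.Modules} (h : Nonempty (A ≅ A')) (h' : Nonempty (B ≅ B')) :
    Nonempty (CohB1.tensorMod A B ≅ CohB1.tensorMod A' B') := by
  obtain ⟨e⟩ := h
  obtain ⟨e'⟩ := h'
  exact ⟨(tensorIso e e' : A ⊗ B ≅ A' ⊗ B')⟩

theorem tens_assoc (A B C : X.Modules) :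
    Nonempty (CohB1.tensorMod (CohB1.tensorMod A B) C ≅ CohB1.tensorMod A (CohB1.tensorMod B C)) :=
  ⟨α_ A B C⟩

theorem tens_comm (A B : X.Modules) : Nonempty (CohB1.tensorMod A B ≅ CohB1.tensorMod B A) :=
  ⟨β_ A B⟩

theorem tens_unit (A : X.Modules) : Nonempty (CohB1.tensorMod A (Coh.structureModule X) ≅ A) :=
  ⟨ρ_ A⟩

theorem unit_tens (A : X.Modules) : Nonempty (CohB1.tensorMod (Coh.structureModule X) A ≅ A) :=
  ⟨λ_ A⟩

theorem tens_right_comm (A B C : X.Modules) :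
    Nonempty (CohB1.tensorMod (CohB1.tensorMod A B) C ≅ CohB1.tensorMod (CohB1.tensorMod A C) B) := by
  obtain ⟨e1⟩ := tens_assoc A B C
  obtain ⟨e2⟩ := tens_congr ⟨Iso.refl A⟩ (tens_comm B C)
  obtain ⟨e3⟩ := tens_assoc A C B
  exact ⟨e1 ≪≫ e2 ≪≫ e3.symm⟩

theorem pull_congr (f : X ⟶ Y) {A B : Y.Modules} (h : Nonempty (A ≅ B)) :
    Nonempty ((Scheme.Modules.pullback f).obj A ≅ (Scheme.Modules.pullback f).obj B) := by
  obtain ⟨e⟩ := h
  exact ⟨(Scheme.Modules.pullback f).mapIso e⟩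

theorem pull_hom_congr {f g : X ⟶ Y} (h : f = g) (A : Y.Modules) :
    Nonempty ((Scheme.Modules.pullback f).obj A ≅ (Scheme.Modules.pullback g).obj A) := by
  subst h
  exact ⟨Iso.refl _⟩

theorem pull_comp (f : X ⟶ Y) (g : Y ⟶ Z) (A : Z.Modules) :
    Nonempty ((Scheme.Modules.pullback (f ≫ g)).obj A ≅
      (Scheme.Modules.pullback f).obj ((Scheme.Modules.pullback g).obj A)) :=
  ⟨((Scheme.Modules.pullbackComp f g).app A).symm⟩

theorem pull_id (A : X.Modules) : Nonempty ((Scheme.Modules.pullback (𝟙 X)).obj A ≅ A) :=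
  ⟨(Scheme.Modules.pullbackId X).app A⟩

theorem pull_tens (f : X ⟶ Y) (A B : Y.Modules) :
    Nonempty ((Scheme.Modules.pullback f).obj (CohB1.tensorMod A B) ≅
      CohB1.tensorMod ((Scheme.Modules.pullback f).obj A) ((Scheme.Modules.pullback f).obj B)) :=
  ⟨pullTensorIso f A B⟩

theorem pull_unit (f : X ⟶ Y) :
    Nonempty ((Scheme.Modules.pullback f).obj (Coh.structureModule Y) ≅ Coh.structureModule X) :=
  ⟨pullUnitIso f⟩

theorem inv_pull (f : X ⟶ Y) {A : Y.Modules} (h : PicF.IsInvertible A) :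
    PicF.IsInvertible ((Scheme.Modules.pullback f).obj A) :=
  Fdesc.LocGen.isInvertible_pullback f h

theorem inv_unit (X : Scheme.{u}) : PicF.IsInvertible (Coh.structureModule X) :=
  Fdesc.LocGen.isInvertible_structureModule

theorem inv_tens {A B : X.Modules} (hA : PicF.IsInvertible A) (hB : PicF.IsInvertible B) :
    PicF.IsInvertible (CohB1.tensorMod A B) :=
  Fdesc.LocGen.isInvertible_tensorMod hA hB

/-- An invertible module is locally trivial, in terms of pull-backs. -/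
theorem loc_triv {A : X.Modules} (hA : PicF.IsInvertible A) (x : X) :
    ∃ U : X.Opens, x ∈ U ∧ Nonempty ((Scheme.Modules.pullback U.ι).obj A ≅ Coh.structureModule U) := by
  obtain ⟨U, hx, ⟨e⟩⟩ := hA x
  exact ⟨U, hx, ⟨(Scheme.Modules.restrictFunctorIsoPullback U.ι).symm.app A ≪≫ e⟩⟩

end gen

section fam

variable {X S : Scheme.{u}} (f : X ⟶ S)

/-- Pull-back of families. -/
noncomputable abbrev pl {T T' : Over S} (g : T' ⟶ T) (E : (PicF.XT f T).Modules) : (PicF.XT f T').Modules :=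
  (Scheme.Modules.pullback (PicF.XTmap f g)).obj E

/-- The twist by a module from the base. -/
noncomputable abbrev bs (T : Over S) (M : T.left.Modules) : (PicF.XT f T).Modules :=
  (Scheme.Modules.pullback (PicF.XTproj f T)).obj M

/-- The constant family. -/
noncomputable abbrev cst (T : Over S) (L : X.Modules) : (PicF.XT f T).Modules :=
  (Scheme.Modules.pullback (pullback.fst f T.hom)).obj L

variable {T T' T'' : Over S}

theorem pl_comp (g : T' ⟶ T) (h : T'' ⟶ T') (E : (PicF.XT f T).Modules) :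
    Nonempty (pl f (h ≫ g) E ≅ pl f h (pl f g E)) := by
  obtain ⟨e⟩ := pull_comp (PicF.XTmap f h) (PicF.XTmap f g) E
  obtain ⟨e'⟩ := pull_hom_congr (XTmap_comp f g h) E
  exact ⟨e' ≪≫ e⟩

theorem pl_id (E : (PicF.XT f T).Modules) : Nonempty (pl f (𝟙 T) E ≅ E) := by
  obtain ⟨e⟩ := pull_id E
  obtain ⟨e'⟩ := pull_hom_congr (XTmap_id f T) E
  exact ⟨e' ≪≫ e⟩

theorem pl_congr (g : T' ⟶ T) {E E' : (PicF.XT f T).Modules} (h : Nonempty (E ≅ E')) :
    Nonempty (pl f g E ≅ pl f g E') := pull_congr _ h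

theorem pl_tens (g : T' ⟶ T) (E E' : (PicF.XT f T).Modules) :
    Nonempty (pl f g (CohB1.tensorMod E E') ≅ CohB1.tensorMod (pl f g E) (pl f g E')) := pull_tens _ _ _

theorem pl_bs (g : T' ⟶ T) (M : T.left.Modules) :
    Nonempty (pl f g (bs f T M) ≅ bs f T' ((Scheme.Modules.pullback g.left).obj M)) := by
  obtain ⟨e⟩ := pull_comp (PicF.XTmap f g) (PicF.XTproj f T) M
  obtain ⟨e'⟩ := pull_comp (PicF.XTproj f T') g.left M
  obtain ⟨e''⟩ := pull_hom_congr (XTmap_XTproj f g) M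
  exact ⟨e.symm ≪≫ e'' ≪≫ e'⟩

theorem pl_cst (g : T' ⟶ T) (L : X.Modules) : Nonempty (pl f g (cst f T L) ≅ cst f T' L) := by
  obtain ⟨e⟩ := pull_comp (PicF.XTmap f g) (pullback.fst f T.hom) L
  obtain ⟨e''⟩ := pull_hom_congr (XTmap_fst f g) L
  exact ⟨e.symm ≪≫ e''⟩

theorem r_of_iso {E E' : (PicF.XT f T).Modules} (h : Nonempty (E ≅ E')) : (ModFun.modProb f).r T E E' := by
  refine ⟨Coh.structureModule T.left, inv_unit _, ?_⟩
  obtain ⟨e⟩ := h
  obtain ⟨e1⟩ := tens_congr ⟨Iso.refl E⟩ (pull_unit (PicF.XTproj f T))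
  obtain ⟨e2⟩ := tens_unit E
  exact ⟨e.symm ≪≫ e2.symm ≪≫ e1.symm⟩

theorem r_refl (E : (PicF.XT f T).Modules) : (ModFun.modProb f).r T E E := r_of_iso f ⟨Iso.refl E⟩

variable {f}

theorem r_symm {E E' : (PicF.XT f T).Modules} (h : (ModFun.modProb f).r T E E') : (ModFun.modProb f).r T E' E := by
  obtain ⟨M, hM, ⟨e⟩⟩ := h
  obtain ⟨M', hM', e'⟩ := Grpsch.PicGrp.exists_inverse hM
  refine ⟨M', hM', ?_⟩
  obtain ⟨e1⟩ := tens_congr ⟨e⟩ ⟨Iso.refl (bs f T M')⟩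
  obtain ⟨e2⟩ := tens_assoc E (bs f T M) (bs f T M')
  obtain ⟨e3⟩ := pull_tens (PicF.XTproj f T) M M'
  obtain ⟨e4⟩ := pull_congr (PicF.XTproj f T) e'
  obtain ⟨e5⟩ := pull_unit (PicF.XTproj f T)
  obtain ⟨e6⟩ := tens_congr ⟨Iso.refl E⟩ ⟨e3.symm ≪≫ e4 ≪≫ e5⟩
  obtain ⟨e7⟩ := tens_unit E
  exact ⟨(e1 ≪≫ e2 ≪≫ e6 ≪≫ e7).symm⟩

theorem r_trans {E E' E'' : (PicF.XT f T).Modules} (h : (ModFun.modProb f).r T E E')
    (h' : (ModFun.modProb f).r T E' E'') : (ModFun.modProb f).r T E E'' := by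
  obtain ⟨M, hM, ⟨e⟩⟩ := h
  obtain ⟨M', hM', ⟨e'⟩⟩ := h'
  refine ⟨CohB1.tensorMod M M', inv_tens hM hM', ?_⟩
  obtain ⟨e1⟩ := tens_congr ⟨e⟩ ⟨Iso.refl (bs f T M')⟩
  obtain ⟨e2⟩ := tens_assoc E (bs f T M) (bs f T M')
  obtain ⟨e3⟩ := pull_tens (PicF.XTproj f T) M M'
  obtain ⟨e6⟩ := tens_congr ⟨Iso.refl E⟩ ⟨e3.symm⟩
  exact ⟨e' ≪≫ e1 ≪≫ e2 ≪≫ e6⟩

theorem r_pull (g : T' ⟶ T) {E E' : (PicF.XT f T).Modules} (h : (ModFun.modProb f).r T E E') :
    (ModFun.modProb f).r T' (pl f g E) (pl f g E') := by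
  obtain ⟨M, hM, h⟩ := h
  refine ⟨(Scheme.Modules.pullback g.left).obj M, inv_pull _ hM, ?_⟩
  obtain ⟨e1⟩ := pl_congr f g h
  obtain ⟨e2⟩ := pl_tens f g E (bs f T M)
  obtain ⟨e3⟩ := tens_congr ⟨Iso.refl (pl f g E)⟩ (pl_bs f g M)
  exact ⟨e1 ≪≫ e2 ≪≫ e3⟩

theorem r_tens {E E' : (PicF.XT f T).Modules} (h : (ModFun.modProb f).r T E E') (L : (PicF.XT f T).Modules) :
    (ModFun.modProb f).r T (CohB1.tensorMod E L) (CohB1.tensorMod E' L) := by
  obtain ⟨M, hM, h⟩ := h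
  refine ⟨M, hM, ?_⟩
  obtain ⟨e1⟩ := tens_congr h ⟨Iso.refl L⟩
  obtain ⟨e2⟩ := tens_right_comm E (bs f T M) L
  exact ⟨e1 ≪≫ e2⟩

theorem r_tens' {E E' : (PicF.XT f T).Modules} (h : (ModFun.modProb f).r T E E') (L : (PicF.XT f T).Modules) :
    (ModFun.modProb f).r T (CohB1.tensorMod L E) (CohB1.tensorMod L E') :=
  r_trans (r_of_iso f (tens_comm L E)) (r_trans (r_tens h L) (r_of_iso f (tens_comm E' L)))

theorem r_tens_tens {E E' L L' : (PicF.XT f T).Modules} (h : (ModFun.modProb f).r T E E')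
    (h' : (ModFun.modProb f).r T L L') :
    (ModFun.modProb f).r T (CohB1.tensorMod E L) (CohB1.tensorMod E' L') :=
  r_trans (r_tens h L) (r_tens' h' E')

/-- Identified families are Zariski locally isomorphic. -/
theorem loc_iso_of_r {E E' : (PicF.XT f T).Modules} (h : (ModFun.modProb f).r T E E') (t : T.left) :
    ∃ U : T.left.Opens, t ∈ U ∧
      Nonempty (pl f (Over.homMk U.ι rfl : Over.mk (U.ι ≫ T.hom) ⟶ T) E' ≅
        pl f (Over.homMk U.ι rfl : Over.mk (U.ι ≫ T.hom) ⟶ T) E) := by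
  obtain ⟨M, hM, h⟩ := h
  obtain ⟨U, ht, e⟩ := loc_triv hM t
  refine ⟨U, ht, ?_⟩
  let g : Over.mk (U.ι ≫ T.hom) ⟶ T := Over.homMk U.ι rfl
  obtain ⟨e1⟩ := pl_congr f g h
  obtain ⟨e2⟩ := pl_tens f g E (bs f T M)
  obtain ⟨e3⟩ := pl_bs f g M
  obtain ⟨e4⟩ := pull_congr (PicF.XTproj f (Over.mk (U.ι ≫ T.hom))) e
  obtain ⟨e5⟩ := pull_unit (PicF.XTproj f (Over.mk (U.ι ≫ T.hom)))
  obtain ⟨e6⟩ := tens_congr ⟨Iso.refl (pl f g E)⟩ ⟨e3 ≪≫ e4 ≪≫ e5⟩
  obtain ⟨e7⟩ := tens_unit (pl f g E)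
  exact ⟨e1 ≪≫ e2 ≪≫ e6 ≪≫ e7⟩

end fam

end K757.Fam
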