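import Groth.Prelude.Def_BunMod
import Groth.Agent.BunMod.K757.Fam
import Groth.Agent.JacVar.K532.Fine
import Groth.Agent.VBCurve.K707.PairInv
import Groth.Agent.VBCurve.K705.Setup
import Groth.Agent.Krr.H482.PullLambda
import Groth.Agent.Krr.H487.PullExt
import Groth.Agent.S15827
import Groth.Agent.Krr.H487.KerRank

/-!
# Admissible families of semistable bundles: pull-back, isomorphism, twist

* `fw_iff`: fibrewise conditions in terms of all `Spec Ω ⟶ T` over the base;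
* `ssk_tw`, `deg_tw`: twisting on a curve;
* `ussOK_pull`, `ussOK_iso`, `ussOK_tw`, `ussOK_r`, `ussDetOK_pull`, `ussDetOK_tw`, `ussDetOK_r`.
-/

set_option autoImplicit false
universe u
open CategoryTheory CategoryTheory.Limits AlgebraicGeometry MonoidalCategory

namespace K757.Geo

open Groth.Agent K757.Fam

section curve

open VarietyA.DegRank K707.Base K707.Deg K707.Slope K707.Semi K707.TensL

variable {k : Type u} [Field k] {X : Scheme.{u}} [X.Over (Spec (CommRingCat.of k))]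

theorem deg_congr {M N : X.Modules} (h : Nonempty (M ≅ N)) (n : ℕ) : Curv2.deg k X M n = Curv2.deg k X N n := by
  obtain ⟨e⟩ := h
  rw [Curv2.deg, Curv2.deg, euler_iso k e]

theorem ssk_congr {M N : X.Modules} (h : Nonempty (M ≅ N)) (n : ℕ) (hM : ModFun.IsSlopeSemistable k X M n) :
    ModFun.IsSlopeSemistable k X N n := by
  obtain ⟨e⟩ := h
  intro F r' i _ h0 hF
  rw [← deg_congr ⟨e⟩ n]
  exact hM F r' (i ≫ e.inv) inferInstance h0 hF

theorem stk_congr {M N : X.Modules} (h : Nonempty (M ≅ N)) (n : ℕ) (hM : ModFun.IsSlopeStable k X M n) :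
    ModFun.IsSlopeStable k X N n := by
  obtain ⟨e⟩ := h
  intro F r' i _ h0 h1 hF
  rw [← deg_congr ⟨e⟩ n]
  exact hM F r' (i ≫ e.inv) inferInstance h0 h1 hF

variable [IsIntegral X] [IsProper (X ↘ (Spec (CommRingCat.of k)))]

theorem deg_tw (C : Crv k X) {E L : X.Modules} {r : ℕ} (hE : FlatMod.IsFinLocFreeOfRank r E)
    (hL : PicF.IsInvertible L) :
    Curv2.deg k X (CohB1.tensorMod E L) r = Curv2.deg k X E r + r * Curv2.deg k X L 1 := by
  have r1 := rank_one_iff.mpr hL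
  have h3 := dg_tensor k C.dim r1 (isCoh_of_rank hE)
  have h4 : FlatMod.IsFinLocFreeOfRank r (CohB1.tensorMod E L) := by
    have := isLocNoeth C
    have h5 := isFinLocFreeOfRank_rk (vb_tensor (isFinLocFree_of_rank hE) (vb_of_inv hL))
    rwa [rk_tensor r1 (isCoh_of_rank hE), rk_of_rank hE, one_mul] at h5
  rw [dg_of_rank k h4, dg_of_rank k hE, dg_of_rank k r1, rk_of_rank hE] at h3
  rw [h3]
  push_cast
  ring

theorem rank_tw (C : Crv k X) {E L : X.Modules} {r : ℕ} (hE : FlatMod.IsFinLocFreeOfRank r E)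
    (hL : PicF.IsInvertible L) : FlatMod.IsFinLocFreeOfRank r (CohB1.tensorMod E L) := by
  have r1 := rank_one_iff.mpr hL
  have := isLocNoeth C
  have h5 := isFinLocFreeOfRank_rk (vb_tensor (isFinLocFree_of_rank hE) (vb_of_inv hL))
  rwa [rk_tensor r1 (isCoh_of_rank hE), rk_of_rank hE, one_mul] at h5

/-- Twisting preserves semistability. -/
theorem ssk_tw (C : Crv k X) {E L : X.Modules} {r : ℕ} (hE : FlatMod.IsFinLocFreeOfRank r E)
    (hL : PicF.IsInvertible L) (h : ModFun.IsSlopeSemistable k X E r) :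
    ModFun.IsSlopeSemistable k X (CohB1.tensorMod E L) r := by
  rw [← ss_iff C (rank_tw C hE hL)]
  rw [← ss_iff C hE] at h
  intro F i hi hF
  have hEv := isFinLocFree_of_rank hE
  obtain ⟨J, j, e, hj, hJ, -, e1, e2⟩ := @K707.PairInv.exists_untwist k _ X _ _ _ C E F L hL hEv (coh_of_vb hF) i hi
  have e3 : rk (CohB1.tensorMod E L) = rk E := by rw [rk_of_rank (rank_tw C hE hL), rk_of_rank hE]
  have e4 : dg k (CohB1.tensorMod E L) = dg k E + rk E * dg k L := by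
    rw [dg_of_rank k (rank_tw C hE hL), dg_of_rank k hE, dg_of_rank k (rank_one_iff.mpr hL), deg_tw C hE hL,
      rk_of_rank hE]
  have h2 := h J j hj hJ
  rw [e3, e4, e2, ← e1]
  linarith

/-- Twisting preserves stability. -/
theorem stk_tw (C : Crv k X) {E L : X.Modules} {r : ℕ} (hE : FlatMod.IsFinLocFreeOfRank r E)
    (hL : PicF.IsInvertible L) (h : ModFun.IsSlopeStable k X E r) :
    ModFun.IsSlopeStable k X (CohB1.tensorMod E L) r := by
  rw [← st_iff (rank_tw C hE hL)]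
  rw [← st_iff hE] at h
  intro F i hi hF h0 h1
  have hEv := isFinLocFree_of_rank hE
  obtain ⟨J, j, e, hj, hJ, -, e1, e2⟩ := @K707.PairInv.exists_untwist k _ X _ _ _ C E F L hL hEv (coh_of_vb hF) i hi
  have e3 : rk (CohB1.tensorMod E L) = rk E := by rw [rk_of_rank (rank_tw C hE hL), rk_of_rank hE]
  have e4 : dg k (CohB1.tensorMod E L) = dg k E + rk E * dg k L := by
    rw [dg_of_rank k (rank_tw C hE hL), dg_of_rank k hE, dg_of_rank k (rank_one_iff.mpr hL), deg_tw C hE hL,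
      rk_of_rank hE]
  rw [e3] at h1
  have h2 := h J j hj hJ (by omega) (by omega)
  rw [e3, e4, e2, ← e1]
  linarith

end curve

section fibrewise

variable {S : Scheme.{u}} {F : ModFun.Problem.{u + 1} S}
  {Q : ∀ (Ω : Type u) [Field Ω] [IsAlgClosed Ω] (s : Spec (CommRingCat.of Ω) ⟶ S), F.Fam (Over.mk s) → Prop}

/-- Fibrewise conditions, tested on all geometric points over the base. -/
theorem fw_iff {T : Over S} {x : F.Fam T} : F.Fibrewise Q T x ↔
    ∀ (Ω : Type u) [Field Ω] [IsAlgClosed Ω] (s : Spec (CommRingCat.of Ω) ⟶ S) (a : Over.mk s ⟶ T),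
      Q Ω s (F.pull a x) := by
  constructor
  · intro h Ω _ _ s a
    have H : ∀ (t : Spec (CommRingCat.of Ω) ⟶ T.left) (s : Spec (CommRingCat.of Ω) ⟶ S) (hs : t ≫ T.hom = s),
        Q Ω s (F.pull (Over.homMk t hs : Over.mk s ⟶ T) x) := by
      rintro t _ rfl
      exact h Ω t
    exact H a.left s (Over.w a)
  · intro h Ω _ _ t
    exact h Ω (t ≫ T.hom) _

end fibrewise

section fam

variable {k : Type u} [Field k] {X : Scheme.{u}} {f : X ⟶ Spec (CommRingCat.of k)}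
  {T T' : Over (Spec (CommRingCat.of k))}

theorem fibDeg_iff {n : ℕ} {d : ℤ} {E : (PicF.XT f T).Modules} : ModFun.FibDeg f n d T E ↔
    ∀ (Ω : Type u) [Field Ω] [IsAlgClosed Ω] (s : Spec (CommRingCat.of Ω) ⟶ Spec (CommRingCat.of k))
      (a : Over.mk s ⟶ T),
      letI : (PicF.XT f (Over.mk s)).Over (Spec (CommRingCat.of Ω)) := ⟨PicF.XTproj f (Over.mk s)⟩
      Curv2.deg Ω (PicF.XT f (Over.mk s)) (pl f a E) n = d := fw_iff

theorem fibSS_iff {n : ℕ} {E : (PicF.XT f T).Modules} : BunMod.FibSemistable f n T E ↔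
    ∀ (Ω : Type u) [Field Ω] [IsAlgClosed Ω] (s : Spec (CommRingCat.of Ω) ⟶ Spec (CommRingCat.of k))
      (a : Over.mk s ⟶ T),
      letI : (PicF.XT f (Over.mk s)).Over (Spec (CommRingCat.of Ω)) := ⟨PicF.XTproj f (Over.mk s)⟩
      ModFun.IsSlopeSemistable Ω (PicF.XT f (Over.mk s)) (pl f a E) n := fw_iff

theorem fibDeg_pull {n : ℕ} {d : ℤ} (g : T' ⟶ T) {E : (PicF.XT f T).Modules} (h : ModFun.FibDeg f n d T E) :
    ModFun.FibDeg f n d T' (pl f g E) := by
  rw [fibDeg_iff] at h ⊢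
  intro Ω _ _ s a
  rw [← h Ω s (a ≫ g)]
  let _ : (PicF.XT f (Over.mk s)).Over (Spec (CommRingCat.of Ω)) := ⟨PicF.XTproj f (Over.mk s)⟩
  obtain ⟨e⟩ := pl_comp f g a E
  exact deg_congr ⟨e.symm⟩ n

theorem fibSS_pull {n : ℕ} (g : T' ⟶ T) {E : (PicF.XT f T).Modules} (h : BunMod.FibSemistable f n T E) :
    BunMod.FibSemistable f n T' (pl f g E) := by
  rw [fibSS_iff] at h ⊢
  intro Ω _ _ s a
  let _ : (PicF.XT f (Over.mk s)).Over (Spec (CommRingCat.of Ω)) := ⟨PicF.XTproj f (Over.mk s)⟩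
  exact ssk_congr (pl_comp f g a E) n (h Ω s (a ≫ g))

theorem fibDeg_iso {n : ℕ} {d : ℤ} {E E' : (PicF.XT f T).Modules} (e : Nonempty (E ≅ E'))
    (h : ModFun.FibDeg f n d T E) : ModFun.FibDeg f n d T E' := by
  rw [fibDeg_iff] at h ⊢
  intro Ω _ _ s a
  rw [← h Ω s a]
  let _ : (PicF.XT f (Over.mk s)).Over (Spec (CommRingCat.of Ω)) := ⟨PicF.XTproj f (Over.mk s)⟩
  obtain ⟨e⟩ := pl_congr f a e
  exact deg_congr ⟨e.symm⟩ n

theorem fibSS_iso {n : ℕ} {E E' : (PicF.XT f T).Modules} (e : Nonempty (E ≅ E'))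
    (h : BunMod.FibSemistable f n T E) : BunMod.FibSemistable f n T E' := by
  rw [fibSS_iff] at h ⊢
  intro Ω _ _ s a
  let _ : (PicF.XT f (Over.mk s)).Over (Spec (CommRingCat.of Ω)) := ⟨PicF.XTproj f (Over.mk s)⟩
  exact ssk_congr (pl_congr f a e) n (h Ω s a)

theorem rank_pull {n : ℕ} {Y Z : Scheme.{u}} (g : Y ⟶ Z) {E : Z.Modules} (h : FlatMod.IsFinLocFreeOfRank n E) :
    FlatMod.IsFinLocFreeOfRank n ((Scheme.Modules.pullback g).obj E) :=
  Krr.H482.PullLambda.isFinLocFreeOfRank_pullback g h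

theorem rank_iso {n : ℕ} {Y : Scheme.{u}} {E E' : Y.Modules} (e : Nonempty (E ≅ E'))
    (h : FlatMod.IsFinLocFreeOfRank n E) : FlatMod.IsFinLocFreeOfRank n E' := by
  obtain ⟨e⟩ := e
  exact K707.Slope.rank_iso e h

/-- Pull-back of admissible families. -/
theorem ussOK_pull {r : ℕ} {d : ℤ} (g : T' ⟶ T) {E : (PicF.XT f T).Modules} (h : BunMod.ussOK f r d T E) :
    BunMod.ussOK f r d T' (pl f g E) :=
  ⟨rank_pull _ h.1, fibDeg_pull g h.2.1, fibSS_pull g h.2.2⟩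

theorem ussOK_iso {r : ℕ} {d : ℤ} {E E' : (PicF.XT f T).Modules} (e : Nonempty (E ≅ E'))
    (h : BunMod.ussOK f r d T E) : BunMod.ussOK f r d T E' :=
  ⟨rank_iso e h.1, fibDeg_iso e h.2.1, fibSS_iso e h.2.2⟩

section tw

variable [IsProper f] [Smooth f] [GeometricallyConnected f]

omit [IsProper f] in
theorem isIntegral_XT {Ω : Type u} [Field Ω] (s : Spec (CommRingCat.of Ω) ⟶ Spec (CommRingCat.of k)) :
    IsIntegral (PicF.XT f (Over.mk s)) := by
  let _ : (PicF.XT f (Over.mk s)).Over (Spec (CommRingCat.of Ω)) := ⟨PicF.XTproj f (Over.mk s)⟩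
  have h1 : Smooth (PicF.XT f (Over.mk s) ↘ Spec (CommRingCat.of Ω)) := inferInstanceAs (Smooth (pullback.snd f s))
  have h2 : GeometricallyConnected (PicF.XT f (Over.mk s) ↘ Spec (CommRingCat.of Ω)) :=
    inferInstanceAs (GeometricallyConnected (pullback.snd f s))
  exact K705.Setup.isIntegral_of_geomConn Ω _

omit [IsProper f] in
theorem crv_XT (hdim : topologicalKrullDim X = 1) {Ω : Type u} [Field Ω]
    (s : Spec (CommRingCat.of Ω) ⟶ Spec (CommRingCat.of k)) :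
    letI : (PicF.XT f (Over.mk s)).Over (Spec (CommRingCat.of Ω)) := ⟨PicF.XTproj f (Over.mk s)⟩
    K707.Base.Crv Ω (PicF.XT f (Over.mk s)) := by
  let _ : (PicF.XT f (Over.mk s)).Over (Spec (CommRingCat.of Ω)) := ⟨PicF.XTproj f (Over.mk s)⟩
  have h1 : Smooth (PicF.XT f (Over.mk s) ↘ Spec (CommRingCat.of Ω)) := inferInstanceAs (Smooth (pullback.snd f s))
  have h2 := isIntegral_XT (f := f) s
  exact K707.Base.Crv.of_smooth (K532.Fine.dim_XT f hdim s)

theorem fibDeg_tw (hdim : topologicalKrullDim X = 1) {r : ℕ} {d e : ℤ} {E L : (PicF.XT f T).Modules}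
    (hr : FlatMod.IsFinLocFreeOfRank r E) (h : ModFun.FibDeg f r d T E) (hL : PicF.IsInvertible L)
    (hLe : ModFun.FibDeg f 1 e T L) : ModFun.FibDeg f r (d + r * e) T (CohB1.tensorMod E L) := by
  rw [fibDeg_iff] at h hLe ⊢
  intro Ω _ _ s a
  let _ : (PicF.XT f (Over.mk s)).Over (Spec (CommRingCat.of Ω)) := ⟨PicF.XTproj f (Over.mk s)⟩
  have h1 := isIntegral_XT (f := f) s
  have h2 : IsProper (PicF.XT f (Over.mk s) ↘ Spec (CommRingCat.of Ω)) :=
    inferInstanceAs (IsProper (pullback.snd f s))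
  rw [deg_congr (pl_tens f a E L), deg_tw (crv_XT hdim s) (rank_pull _ hr) (inv_pull _ hL)]
  have h3 := h Ω s a
  have h4 := hLe Ω s a
  rw [h3, h4]

theorem fibSS_tw (hdim : topologicalKrullDim X = 1) {r : ℕ} {E L : (PicF.XT f T).Modules}
    (hr : FlatMod.IsFinLocFreeOfRank r E) (h : BunMod.FibSemistable f r T E) (hL : PicF.IsInvertible L) :
    BunMod.FibSemistable f r T (CohB1.tensorMod E L) := by
  rw [fibSS_iff] at h ⊢
  intro Ω _ _ s a
  let _ : (PicF.XT f (Over.mk s)).Over (Spec (CommRingCat.of Ω)) := ⟨PicF.XTproj f (Over.mk s)⟩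
  have h1 := isIntegral_XT (f := f) s
  have h2 : IsProper (PicF.XT f (Over.mk s) ↘ Spec (CommRingCat.of Ω)) :=
    inferInstanceAs (IsProper (pullback.snd f s))
  obtain ⟨e⟩ := pl_tens f a E L
  exact ssk_congr ⟨e.symm⟩ r (ssk_tw (crv_XT hdim s) (rank_pull _ hr) (inv_pull _ hL) (h Ω s a))

end tw

section base

/-- Over the spectrum of a field identified families are isomorphic. -/
theorem iso_of_r {Ω : Type u} [Field Ω] {s : Spec (CommRingCat.of Ω) ⟶ Spec (CommRingCat.of k)}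
    {E E' : (PicF.XT f (Over.mk s)).Modules} (h : (ModFun.modProb f).r (Over.mk s) E E') : Nonempty (E ≅ E') := by
  obtain ⟨U, hU, ⟨e⟩⟩ := loc_iso_of_r h (IsLocalRing.closedPoint Ω)
  have hU' : U = ⊤ := by
    rw [eq_top_iff]
    intro x _
    rwa [Subsingleton.elim (α := PrimeSpectrum Ω) x (IsLocalRing.closedPoint Ω)]
  have : IsIso U.ι := by
    subst hU'
    exact inferInstanceAs (IsIso (Scheme.topIso (Over.mk s).left).hom)
  let g : Over.mk (U.ι ≫ (Over.mk s).hom) ⟶ Over.mk s := Over.homMk U.ι rfl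
  let j : Over.mk s ⟶ Over.mk (U.ι ≫ (Over.mk s).hom) := Over.homMk (inv U.ι) (by simp)
  have hj : j ≫ g = 𝟙 _ := Over.OverMorphism.ext (IsIso.inv_hom_id U.ι)
  obtain ⟨e1⟩ := pl_id f E
  obtain ⟨e2⟩ := pl_id f E'
  obtain ⟨e3⟩ := pl_comp f g j E
  obtain ⟨e4⟩ := pl_comp f g j E'
  obtain ⟨e5⟩ := pl_congr f j ⟨e⟩
  rw [hj] at e3 e4
  exact ⟨e1.symm ≪≫ e3 ≪≫ e5.symm ≪≫ e4.symm ≪≫ e2⟩

theorem fibDeg_r {n : ℕ} {d : ℤ} {E E' : (PicF.XT f T).Modules} (hr : (ModFun.modProb f).r T E E')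
    (h : ModFun.FibDeg f n d T E) : ModFun.FibDeg f n d T E' := by
  rw [fibDeg_iff] at h ⊢
  intro Ω _ _ s a
  rw [← h Ω s a]
  let _ : (PicF.XT f (Over.mk s)).Over (Spec (CommRingCat.of Ω)) := ⟨PicF.XTproj f (Over.mk s)⟩
  obtain ⟨e⟩ := iso_of_r (r_pull a hr)
  exact deg_congr ⟨e.symm⟩ n

theorem fibSS_r {n : ℕ} {E E' : (PicF.XT f T).Modules} (hr : (ModFun.modProb f).r T E E')
    (h : BunMod.FibSemistable f n T E) : BunMod.FibSemistable f n T E' := by
  rw [fibSS_iff] at h ⊢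
  intro Ω _ _ s a
  let _ : (PicF.XT f (Over.mk s)).Over (Spec (CommRingCat.of Ω)) := ⟨PicF.XTproj f (Over.mk s)⟩
  exact ssk_congr (iso_of_r (r_pull a hr)) n (h Ω s a)

theorem rank_tens {n : ℕ} {Y : Scheme.{u}} {E L : Y.Modules} (hE : FlatMod.IsFinLocFreeOfRank n E)
    (hL : PicF.IsInvertible L) : FlatMod.IsFinLocFreeOfRank n (CohB1.tensorMod E L) := by
  have h := Krr.H487.KerRank.isFinLocFreeOfRank_tensor hE (K707.TensL.rank_one_iff.mpr hL)
  rwa [mul_one] at h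

theorem rank_r {n : ℕ} {E E' : (PicF.XT f T).Modules} (hr : (ModFun.modProb f).r T E E')
    (h : FlatMod.IsFinLocFreeOfRank n E) : FlatMod.IsFinLocFreeOfRank n E' := by
  obtain ⟨M, hM, ⟨e⟩⟩ := hr
  exact rank_iso ⟨e.symm⟩ (rank_tens h (inv_pull _ hM))

theorem ussOK_r {r : ℕ} {d : ℤ} {E E' : (PicF.XT f T).Modules} (hr : (ModFun.modProb f).r T E E')
    (h : BunMod.ussOK f r d T E) : BunMod.ussOK f r d T E' :=
  ⟨rank_r hr h.1, fibDeg_r hr h.2.1, fibSS_r hr h.2.2⟩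

/-- Admissibility for line bundles of degree `e`, unfolded. -/
theorem picDeg_ok_iff {e : ℤ} {L : (PicF.XT f T).Modules} :
    (ModFun.PicDeg f e).ok T L ↔ PicF.IsInvertible L ∧ ModFun.FibDeg f 1 e T L := by
  constructor
  · rintro ⟨⟨-, h1⟩, h2⟩
    exact ⟨K707.TensL.rank_one_iff.mp h1, h2⟩
  · rintro ⟨h1, h2⟩
    exact ⟨⟨trivial, K707.TensL.rank_one_iff.mpr h1⟩, h2⟩

theorem picDeg_pull {e : ℤ} (g : T' ⟶ T) {L : (PicF.XT f T).Modules} (h : (ModFun.PicDeg f e).ok T L) :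
    (ModFun.PicDeg f e).ok T' (pl f g L) := by
  rw [picDeg_ok_iff] at h ⊢
  exact ⟨inv_pull _ h.1, fibDeg_pull g h.2⟩

theorem picDeg_r {e : ℤ} {L L' : (PicF.XT f T).Modules} (hr : (ModFun.modProb f).r T L L')
    (h : (ModFun.PicDeg f e).ok T L) : (ModFun.PicDeg f e).ok T L' := by
  rw [picDeg_ok_iff] at h ⊢
  exact ⟨K707.TensL.rank_one_iff.mp (rank_r hr (K707.TensL.rank_one_iff.mpr h.1)), fibDeg_r hr h.2⟩

variable [IsProper f] [Smooth f] [GeometricallyConnected f]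

/-- Twists of admissible families. -/
theorem ussOK_tw (hdim : topologicalKrullDim X = 1) {r : ℕ} {d e : ℤ} {E L : (PicF.XT f T).Modules}
    (h : BunMod.ussOK f r d T E) (hL : (ModFun.PicDeg f e).ok T L) :
    BunMod.ussOK f r (d + r * e) T (CohB1.tensorMod E L) := by
  rw [picDeg_ok_iff] at hL
  exact ⟨rank_tens h.1 hL.1, fibDeg_tw hdim h.1 h.2.1 hL.1 hL.2, fibSS_tw hdim h.1 h.2.2 hL.1⟩

/-- Products of line bundles. -/
theorem picDeg_mul (hdim : topologicalKrullDim X = 1) {d e : ℤ} {E L : (PicF.XT f T).Modules}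
    (h : (ModFun.PicDeg f d).ok T E) (hL : (ModFun.PicDeg f e).ok T L) :
    (ModFun.PicDeg f (d + e)).ok T (CohB1.tensorMod E L) := by
  rw [picDeg_ok_iff] at h hL ⊢
  refine ⟨inv_tens h.1 hL.1, ?_⟩
  have h1 := fibDeg_tw hdim (K707.TensL.rank_one_iff.mpr h.1) h.2 hL.1 hL.2
  rwa [Nat.cast_one, one_mul] at h1

omit [IsProper f] [Smooth f] [GeometricallyConnected f] in
/-- The trivial line bundle. -/
theorem picDeg_one : (ModFun.PicDeg f 0).ok T (Coh.structureModule (PicF.XT f T)) := by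
  rw [picDeg_ok_iff, fibDeg_iff]
  refine ⟨inv_unit _, fun Ω _ _ s a => ?_⟩
  let _ : (PicF.XT f (Over.mk s)).Over (Spec (CommRingCat.of Ω)) := ⟨PicF.XTproj f (Over.mk s)⟩
  rw [deg_congr (pull_unit (PicF.XTmap f a)), Curv2.deg]
  simp

/-- Inverses of line bundles. -/
theorem picDeg_inv (hdim : topologicalKrullDim X = 1) {d : ℤ} {L L' : (PicF.XT f T).Modules}
    (h : (ModFun.PicDeg f d).ok T L) (hL' : PicF.IsInvertible L')
    (e : Nonempty (CohB1.tensorMod L L' ≅ Coh.structureModule (PicF.XT f T))) :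
    (ModFun.PicDeg f (-d)).ok T L' := by
  rw [picDeg_ok_iff] at h ⊢
  refine ⟨hL', ?_⟩
  have h0 := (picDeg_ok_iff.1 (picDeg_one (f := f) (T := T))).2
  have h1 := h.2
  rw [fibDeg_iff] at h0 h1 ⊢
  intro Ω _ _ s a
  let _ : (PicF.XT f (Over.mk s)).Over (Spec (CommRingCat.of Ω)) := ⟨PicF.XTproj f (Over.mk s)⟩
  have h3 := isIntegral_XT (f := f) s
  have h2 : IsProper (PicF.XT f (Over.mk s) ↘ Spec (CommRingCat.of Ω)) :=
    inferInstanceAs (IsProper (pullback.snd f s))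
  have h4 := deg_tw (crv_XT hdim s) (r := 1) (K707.TensL.rank_one_iff.mpr (inv_pull (PicF.XTmap f a) h.1))
    (inv_pull (PicF.XTmap f a) hL')
  obtain ⟨e1⟩ := pl_congr f a e
  obtain ⟨e2⟩ := pl_tens f a L L'
  rw [deg_congr ⟨e2.symm ≪≫ e1⟩, h0 Ω s a, h1 Ω s a] at h4
  push_cast at h4
  linarith

end base

end fam

end K757.Geo
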