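import Groth.Agent.BunMod.K757.TwistUSS
import Groth.Agent.Surf.K461.Canon
import Groth.Agent.Krr.H495.ExtExist
import Groth.Agent.Sga67.TensorOps
import Groth.Agent.Krr.H487.PullExt

/-!
# Determinants of families and the moduli space with fixed determinant

* `exists_det`, `det_unique`, `det_pull`, `det_tens`, `det_r`, `picDeg_det_iff`: top exterior powers of families;
* `dm_eq`, `dm_tw`: the determinant morphism, `det (E ⊗ P_l) = l ^ r * det E`;
* `M0hom`, `M0_univBest`: the fibre of the determinant over `1` corepresents `BunMod.USSdet f r O` universally;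
* `detEqv`: `USSdet f r O ≃ USSdet f r L` for an `r`-th root of `L`.
-/

set_option autoImplicit false
universe u
open CategoryTheory CategoryTheory.Limits AlgebraicGeometry MonoidalCategory CartesianMonoidalCategory MonObj

namespace K757.DetM0

open Groth.Agent K757.Fam K757.Geo K757.HomOver K757.Act K757.TwistUSS

section det

variable {Y Z : Scheme.{u}}

theorem exists_det {r : ℕ} {E : Y.Modules} (hE : FlatMod.IsFinLocFreeOfRank r E) :
    ∃ D : Y.Modules, PicF.IsInvertible D ∧ ExtPow.IsExtPow r E D := by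
  obtain ⟨D, -, hD⟩ := Krr.H495.ExtExist.exists_isExtPow r E (K707.Base.isFinLocFree_of_rank hE)
  exact ⟨D, K461.Canon.isInvertible_extPow hE hD, hD⟩

theorem det_unique {r : ℕ} {E E' D D' : Y.Modules} (e : Nonempty (E ≅ E')) (hD : ExtPow.IsExtPow r E D)
    (hD' : ExtPow.IsExtPow r E' D') : Nonempty (D ≅ D') := by
  obtain ⟨e⟩ := e
  exact Sga67.TensorOps.nonempty_iso_of_isExtPow e hD hD'

theorem det_iso {r : ℕ} {E D D' : Y.Modules} (hD : ExtPow.IsExtPow r E D) (e : Nonempty (D ≅ D')) :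
    ExtPow.IsExtPow r E D' := by
  obtain ⟨e⟩ := e
  exact Krr.H487.ExtPull.isExtPow_of_iso hD e

theorem det_pull {r : ℕ} (g : Y ⟶ Z) {E D : Z.Modules} (hE : FlatMod.IsFinLocFreeOfRank r E)
    (hD : ExtPow.IsExtPow r E D) :
    ExtPow.IsExtPow r ((Scheme.Modules.pullback g).obj E) ((Scheme.Modules.pullback g).obj D) :=
  Krr.H487.PullExt.isExtPow_pullback g (K707.Base.isFinLocFree_of_rank hE) hD

theorem det_tens {r : ℕ} {E L D : Y.Modules} (hE : FlatMod.IsFinLocFreeOfRank r E) (hL : PicF.IsInvertible L)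
    (hD : ExtPow.IsExtPow r E D) : ExtPow.IsExtPow r (CohB1.tensorMod E L) (CohB1.tensorMod D (CohB1.tensorPow L r)) := by
  obtain ⟨D', -, hD'⟩ := exists_det (rank_tens hE hL)
  exact det_iso hD' (S15827.result E L (K707.Base.isFinLocFree_of_rank hE) (K707.TensL.rank_one_iff.mpr hL) r D' D hD' hD)

end det

section fam

variable {k : Type u} [Field k] {X : Scheme.{u}} {f : X ⟶ Spec (CommRingCat.of k)}
  {T T' : Over (Spec (CommRingCat.of k))}

theorem pull_pow {Y Z : Scheme.{u}} (g : Y ⟶ Z) (L : Z.Modules) (n : ℕ) :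
    Nonempty ((Scheme.Modules.pullback g).obj (CohB1.tensorPow L n) ≅
      CohB1.tensorPow ((Scheme.Modules.pullback g).obj L) n) := by
  induction n with
  | zero => exact pull_unit g
  | succ n ih =>
    obtain ⟨e1⟩ := pull_tens g (CohB1.tensorPow L n) L
    obtain ⟨e2⟩ := tens_congr ih ⟨Iso.refl ((Scheme.Modules.pullback g).obj L)⟩
    exact ⟨e1 ≪≫ e2⟩

theorem inv_pow {Y : Scheme.{u}} {L : Y.Modules} (hL : PicF.IsInvertible L) (n : ℕ) :
    PicF.IsInvertible (CohB1.tensorPow L n) := by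
  induction n with
  | zero => exact inv_unit _
  | succ n ih => exact inv_tens ih hL

/-- Determinants of identified families are identified. -/
theorem det_r {r : ℕ} {E E' D D' : (PicF.XT f T).Modules} (hE : FlatMod.IsFinLocFreeOfRank r E)
    (h : (ModFun.modProb f).r T E E') (hD : ExtPow.IsExtPow r E D) (hD' : ExtPow.IsExtPow r E' D') :
    (ModFun.modProb f).r T D D' := by
  obtain ⟨M, hM, e⟩ := h
  refine ⟨CohB1.tensorPow M r, inv_pow hM r, ?_⟩
  obtain ⟨e1⟩ := det_unique e hD' (det_tens hE (inv_pull (PicF.XTproj f T) hM) hD)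
  obtain ⟨e2⟩ := pull_pow (PicF.XTproj f T) M r
  obtain ⟨e3⟩ := tens_congr ⟨Iso.refl D⟩ ⟨e2.symm⟩
  exact ⟨e1 ≪≫ e3⟩

/-- The degree of a family is the degree of its determinant. -/
theorem fibDeg_det_iff [IsProper f] (hdim : topologicalKrullDim X = 1) {r : ℕ} {d : ℤ} {E D : (PicF.XT f T).Modules}
    (hE : FlatMod.IsFinLocFreeOfRank r E) (hD : ExtPow.IsExtPow r E D) :
    ModFun.FibDeg f 1 d T D ↔ ModFun.FibDeg f r d T E := by
  rw [fibDeg_iff, fibDeg_iff]
  refine forall_congr' fun Ω => forall_congr' fun _ => forall_congr' fun _ => forall_congr' fun s =>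
    forall_congr' fun a => ?_
  let _ : (PicF.XT f (Over.mk s)).Over (Spec (CommRingCat.of Ω)) := ⟨PicF.XTproj f (Over.mk s)⟩
  have h2 : IsProper (PicF.XT f (Over.mk s) ↘ Spec (CommRingCat.of Ω)) :=
    inferInstanceAs (IsProper (pullback.snd f s))
  have h := S7638.result Ω (PicF.XT f (Over.mk s)) (K532.Fine.dim_XT f hdim s).le r _
    (rank_pull (PicF.XTmap f a) hE) _ (det_pull (PicF.XTmap f a) hE hD)
  exact ⟨fun h1 => h.trans h1, fun h1 => h.symm.trans h1⟩

theorem picDeg_det [IsProper f] (hdim : topologicalKrullDim X = 1) {r : ℕ} {d : ℤ} {E D : (PicF.XT f T).Modules}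
    (hE : BunMod.ussOK f r d T E) (hD : ExtPow.IsExtPow r E D) : (ModFun.PicDeg f d).ok T D := by
  rw [picDeg_ok_iff]
  exact ⟨K461.Canon.isInvertible_extPow hE.1 hD, (fibDeg_det_iff hdim hE.1 hD).2 hE.2.1⟩

end fam

section dm

variable {k : Type u} [Field k] {X : Scheme.{u}} {f : X ⟶ Spec (CommRingCat.of k)}
  [IsProper f] [Smooth f] [GeometricallyConnected f] (hdim : topologicalKrullDim X = 1)
  {J : Over (Spec (CommRingCat.of k))} [GrpObj J] {ψ : (ModFun.PicDeg f 0).Hom ⊤ J} (FJ : FineJ f J ψ)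
  {r : ℕ} {M : Over (Spec (CommRingCat.of k))} {φ : (BunMod.USS f r 0).Hom ⊤ M} {dm : M ⟶ J}
  (hdm : BunMod.IsDetMap f (BunMod.ussOK f r 0) φ 0 ψ dm) {T : Over (Spec (CommRingCat.of k))}

include hdm

omit [IsProper f] [Smooth f] [GeometricallyConnected f] [GrpObj J] in
/-- The determinant morphism on families. -/
theorem dm_eq {E D : (PicF.XT f T).Modules} (hE : (BunMod.USS f r 0).ok T E) (hD : ExtPow.IsExtPow r E D)
    (hDok : (ModFun.PicDeg f 0).ok T D) : φ.app T E trivial hE ≫ dm = ψ.app T D trivial hDok :=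
  (hdm.2 T E D trivial hE hDok ⟨r, hE.2.1, hD⟩).symm

include FJ in
/-- The determinant of a twist. -/
theorem dm_tw {E : (PicF.XT f T).Modules} (hE : (BunMod.USS f r 0).ok T E) (l : T ⟶ J) :
    φ.app T ((FJ.twist hdim r 0).tw l E) trivial ((FJ.twist hdim r 0).ok_tw l E hE) ≫ dm =
      l ^ r * (φ.app T E trivial hE ≫ dm) := by
  obtain ⟨D, hDi, hD⟩ := exists_det hE.2.1
  have hDok := picDeg_det hdim hE.2 hD
  have h1 := det_tens hE.2.1 (FJ.inv_at l) hD
  have h2 : (ModFun.PicDeg f 0).ok T (CohB1.tensorMod D (CohB1.tensorPow (FJ.at' l) r)) :=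
    picDeg_det hdim ((FJ.twist hdim r 0).ok_tw l E hE).2 h1
  have h3 := FineJ.picDeg_pow hdim (FJ.ok_at l) r
  rw [dm_eq hdm ((FJ.twist hdim r 0).ok_tw l E hE) h1 h2, dm_eq hdm hE hD hDok,
    FJ.mul T (CohB1.tensorPow (FJ.at' l) r) D _ h3 hDok h2 (tens_comm _ _),
    FJ.psi_pow hdim (FJ.ok_at l) r h3, FJ.psi_at]

include hdim FJ in
omit [Smooth f] [GeometricallyConnected f] in
/-- `det` is trivial exactly when the classifying morphism of the determinant is `1`. -/
theorem dm_eq_one_iff {E : (PicF.XT f T).Modules} (hE : (BunMod.USS f r 0).ok T E) :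
    φ.app T E trivial hE ≫ dm = 1 ↔ ModFun.DetIs f r (Coh.structureModule X) T E := by
  obtain ⟨D, hDi, hD⟩ := exists_det hE.2.1
  have hDok := picDeg_det hdim hE.2 hD
  have h0 : Nonempty ((Scheme.Modules.pullback (pullback.fst f T.hom)).obj (Coh.structureModule X) ≅
      Coh.structureModule (PicF.XT f T)) := pull_unit _
  rw [dm_eq hdm hE hD hDok, ← FJ.psi_one picDeg_one, FJ.psi_eq_iff hDok picDeg_one]
  constructor
  · intro h
    exact ⟨D, hD, r_trans (r_of_iso f h0) (r_symm h)⟩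
  · rintro ⟨D', hD', h⟩
    obtain ⟨e⟩ := det_unique ⟨Iso.refl E⟩ hD hD'
    exact r_symm (r_trans (r_trans (r_symm (r_of_iso f h0)) h) (r_of_iso f ⟨e.symm⟩))

end dm

section M0

variable {k : Type u} [Field k] {X : Scheme.{u}} {f : X ⟶ Spec (CommRingCat.of k)}
  [IsProper f] [Smooth f] [GeometricallyConnected f] (hdim : topologicalKrullDim X = 1)
  {J : Over (Spec (CommRingCat.of k))} [GrpObj J] {ψ : (ModFun.PicDeg f 0).Hom ⊤ J} (FJ : FineJ f J ψ)
  {r : ℕ} {M : Over (Spec (CommRingCat.of k))} {φ : (BunMod.USS f r 0).Hom ⊤ M} {dm : M ⟶ J}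
  (hdm : BunMod.IsDetMap f (BunMod.ussOK f r 0) φ 0 ψ dm) {M₀ : Over (Spec (CommRingCat.of k))} {i : M₀ ⟶ M}
  (hi : IsPullback i (toUnit M₀) dm η[J])

include hi in
theorem mono_i : Mono i := by
  have : Mono η[J] := inferInstance
  exact (MorphismProperty.monomorphisms _).of_isPullback hi.flip this

include hi in
/-- Points of `M₀` are the points of `M` with trivial determinant. -/
theorem exists_iff {T : Over (Spec (CommRingCat.of k))} (m : T ⟶ M) : (∃ t : T ⟶ M₀, t ≫ i = m) ↔ m ≫ dm = 1 := by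
  constructor
  · rintro ⟨t, rfl⟩
    exact comp_dm_eq_one dm i hi t
  · intro h
    exact ⟨hi.lift m (toUnit T) (h.trans Hom.one_def), hi.lift_fst _ _ _⟩

include hdim in
omit [Smooth f] [GeometricallyConnected f] in
/-- Admissible families with trivial determinant. -/
theorem ussDet_ok_iff {T : Over (Spec (CommRingCat.of k))} {E : (PicF.XT f T).Modules} :
    (BunMod.USSdet f r (Coh.structureModule X)).ok T E ↔
      (BunMod.USS f r 0).ok T E ∧ ModFun.DetIs f r (Coh.structureModule X) T E := by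
  constructor
  · rintro ⟨-, h1, h2, h3⟩
    refine ⟨⟨trivial, h1, ?_, h3⟩, h2⟩
    obtain ⟨D, hD, hr⟩ := h2
    have h4 : (ModFun.modProb f).r T (Coh.structureModule (PicF.XT f T)) D :=
      r_trans (r_symm (r_of_iso f (pull_unit _))) hr
    exact (fibDeg_det_iff hdim h1 hD).1 (picDeg_ok_iff.1 (picDeg_r h4 picDeg_one)).2
  · rintro ⟨⟨-, h1, -, h3⟩, h2⟩
    exact ⟨trivial, h1, h2, h3⟩

include hdim FJ hdm hi in
omit [Smooth f] [GeometricallyConnected f] in
theorem hQ (T : Over (Spec (CommRingCat.of k))) (E : (ModFun.modProb f).Fam T)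
    (h : ((ModFun.modProb f).restrict (BunMod.ussDetOK f r (Coh.structureModule X))).ok T E) :
    ∃ (hx : ((ModFun.modProb f).restrict (BunMod.ussOK f r 0)).ok T E) (t : T ⟶ M₀),
      t ≫ i = φ.app T E trivial hx := by
  obtain ⟨h1, h2⟩ := (ussDet_ok_iff hdim).1 h
  exact ⟨h1, (exists_iff hi _).2 ((dm_eq_one_iff hdim FJ hdm h1).2 h2)⟩

include hdim FJ hdm hi in
omit [Smooth f] [GeometricallyConnected f] in
theorem hQ' (T : Over (Spec (CommRingCat.of k))) (E : (ModFun.modProb f).Fam T)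
    (hx : ((ModFun.modProb f).restrict (BunMod.ussOK f r 0)).ok T E) (t : T ⟶ M₀)
    (ht : t ≫ i = φ.app T E trivial hx) :
    ((ModFun.modProb f).restrict (BunMod.ussDetOK f r (Coh.structureModule X))).ok T E :=
  (ussDet_ok_iff hdim).2 ⟨hx, (dm_eq_one_iff hdim FJ hdm hx).1 ((exists_iff hi _).1 ⟨t, ht⟩)⟩

/-- The classifying morphism of `M₀`. -/
noncomputable def M0hom : (BunMod.USSdet f r (Coh.structureModule X)).Hom ⊤ M₀ :=
  haveI := mono_i hi
  subHom φ i (hQ hdim FJ hdm hi)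

theorem M0hom_comp {T : Over (Spec (CommRingCat.of k))} {E : (PicF.XT f T).Modules}
    (h : (BunMod.USSdet f r (Coh.structureModule X)).ok T E) (h' : (BunMod.USS f r 0).ok T E) :
    (M0hom hdim FJ hdm hi).app T E trivial h ≫ i = φ.app T E trivial h' :=
  haveI := mono_i hi
  subHom_comp φ i (hQ hdim FJ hdm hi) h h'

theorem M0_univBest (hφ : UnivBest φ) : UnivBest (M0hom hdim FJ hdm hi) :=
  haveI := mono_i hi
  hφ.sub φ i (hQ hdim FJ hdm hi) (hQ' hdim FJ hdm hi)

include hdm hi in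
/-- The cartesian square over multiplication by `r`. -/
theorem square (hφ : UnivBest φ) : IsPullback ((i ▷ J) ≫ act hφ (FJ.twist hdim r 0))
    (CartesianMonoidalCategory.snd M₀ J) dm ((𝟙 J) ^ r) :=
  isPullback hφ (FJ.twist hdim r 0) r dm (fun _ _ hE l => dm_tw hdim FJ hdm hE l) i hi

/-- The value of the square on families: `(E₀, l) ↦ E₀ ⊗ P_l`. -/
theorem square_app (hφ : UnivBest φ) {T : Over (Spec (CommRingCat.of k))} {E : (PicF.XT f T).Modules}
    (h : (BunMod.USSdet f r (Coh.structureModule X)).ok T E) (l : T ⟶ J)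
    (h' : (BunMod.USS f r 0).ok T (CohB1.tensorMod E (FJ.at' l))) :
    lift ((M0hom hdim FJ hdm hi).app T E trivial h) l ≫ (i ▷ J) ≫ act hφ (FJ.twist hdim r 0) =
      φ.app T (CohB1.tensorMod E (FJ.at' l)) trivial h' := by
  have h1 := ((ussDet_ok_iff hdim).1 h).1
  have h2 : lift ((M0hom hdim FJ hdm hi).app T E trivial h) l ≫ (i ▷ J) = lift (φ.app T E trivial h1) l := by
    rw [← M0hom_comp hdim FJ hdm hi h h1]
    apply CartesianMonoidalCategory.hom_ext <;> simp
  rw [← Category.assoc, h2, act_app]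
  rfl

end M0

section eqv

variable {k : Type u} [Field k] {X : Scheme.{u}} {f : X ⟶ Spec (CommRingCat.of k)}
  [IsProper f] [Smooth f] [GeometricallyConnected f] (hdim : topologicalKrullDim X = 1) {r : ℕ}

omit [IsProper f] [Smooth f] [GeometricallyConnected f] in
theorem detIs_iff {T : Over (Spec (CommRingCat.of k))} {L : X.Modules} {E D : (PicF.XT f T).Modules}
    (hD : ExtPow.IsExtPow r E D) : ModFun.DetIs f r L T E ↔ (ModFun.modProb f).r T (cst f T L) D := by
  constructor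
  · rintro ⟨D', hD', h⟩
    exact r_trans h (r_of_iso f (det_unique ⟨Iso.refl E⟩ hD' hD))
  · intro h
    exact ⟨D, hD, h⟩

omit [IsProper f] [Smooth f] [GeometricallyConnected f] in
theorem detIs_tw {T : Over (Spec (CommRingCat.of k))} {L L' R : X.Modules} (hR : PicF.IsInvertible R)
    (e : Nonempty (CohB1.tensorMod L (CohB1.tensorPow R r) ≅ L')) {E : (PicF.XT f T).Modules}
    (hE : FlatMod.IsFinLocFreeOfRank r E) (h : ModFun.DetIs f r L T E) :
    ModFun.DetIs f r L' T (CohB1.tensorMod E (cst f T R)) := by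
  obtain ⟨D, hD, h⟩ := h
  refine ⟨_, det_tens hE (inv_pull _ hR) hD, ?_⟩
  obtain ⟨e1⟩ := pull_congr (pullback.fst f T.hom) e
  obtain ⟨e2⟩ := pull_tens (pullback.fst f T.hom) L (CohB1.tensorPow R r)
  obtain ⟨e3⟩ := tens_congr ⟨Iso.refl (cst f T L)⟩ (pull_pow (pullback.fst f T.hom) R r)
  exact r_trans (r_of_iso f ⟨e1.symm ≪≫ e2 ≪≫ e3⟩) (r_tens h _)

omit [IsProper f] [Smooth f] [GeometricallyConnected f] in
/-- Families with determinant `L` stay such under pull-back. -/
theorem ussDetOK_pull {T T' : Over (Spec (CommRingCat.of k))} {L : X.Modules} (g : T' ⟶ T)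
    {E : (PicF.XT f T).Modules} (h : BunMod.ussDetOK f r L T E) : BunMod.ussDetOK f r L T' (pl f g E) := by
  obtain ⟨h1, ⟨D, hD, h2⟩, h3⟩ := h
  exact ⟨rank_pull _ h1, ⟨pl f g D, det_pull _ h1 hD, r_trans (r_symm (r_of_iso f (pl_cst f g L))) (r_pull g h2)⟩,
    fibSS_pull g h3⟩

include hdim in
theorem ussDetOK_tw {T : Over (Spec (CommRingCat.of k))} {L L' R : X.Modules} (hR : PicF.IsInvertible R)
    (e : Nonempty (CohB1.tensorMod L (CohB1.tensorPow R r) ≅ L')) {E : (PicF.XT f T).Modules}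
    (h : BunMod.ussDetOK f r L T E) : BunMod.ussDetOK f r L' T (CohB1.tensorMod E (cst f T R)) :=
  ⟨rank_tens h.1 (inv_pull _ hR), detIs_tw hR e h.1 h.2.1, fibSS_tw hdim h.1 h.2.2 (inv_pull _ hR)⟩

omit [IsProper f] [Smooth f] [GeometricallyConnected f] in
theorem tw_tw {T : Over (Spec (CommRingCat.of k))} {R R' : X.Modules}
    (hRR : Nonempty (CohB1.tensorMod R R' ≅ Coh.structureModule X)) (E : (PicF.XT f T).Modules) :
    Nonempty (CohB1.tensorMod (CohB1.tensorMod E (cst f T R)) (cst f T R') ≅ E) := by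
  obtain ⟨e1⟩ := tens_assoc E (cst f T R) (cst f T R')
  obtain ⟨e2⟩ := pull_tens (pullback.fst f T.hom) R R'
  obtain ⟨e3⟩ := pull_congr (pullback.fst f T.hom) hRR
  obtain ⟨e4⟩ := pull_unit (pullback.fst f T.hom)
  obtain ⟨e5⟩ := tens_congr ⟨Iso.refl E⟩ ⟨e2.symm ≪≫ e3 ≪≫ e4⟩
  obtain ⟨e6⟩ := tens_unit E
  exact ⟨e1 ≪≫ e5 ≪≫ e6⟩

omit [IsProper f] [Smooth f] [GeometricallyConnected f] in
theorem pull_tw {T T' : Over (Spec (CommRingCat.of k))} (g : T' ⟶ T) (R : X.Modules) (E : (PicF.XT f T).Modules) :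
    Nonempty (pl f g (CohB1.tensorMod E (cst f T R)) ≅ CohB1.tensorMod (pl f g E) (cst f T' R)) := by
  obtain ⟨e1⟩ := pl_tens f g E (cst f T R)
  obtain ⟨e2⟩ := tens_congr ⟨Iso.refl (pl f g E)⟩ (pl_cst f g R)
  exact ⟨e1 ≪≫ e2⟩

/-- Twisting by an `r`-th root identifies the problems with determinants `L` and `L ⊗ R^r`. -/
noncomputable def detEqv {L L' R R' : X.Modules} (hR : PicF.IsInvertible R) (hR' : PicF.IsInvertible R')
    (hRR : Nonempty (CohB1.tensorMod R R' ≅ Coh.structureModule X))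
    (e : Nonempty (CohB1.tensorMod L (CohB1.tensorPow R r) ≅ L'))
    (e' : Nonempty (CohB1.tensorMod L' (CohB1.tensorPow R' r) ≅ L)) :
    Eqv (BunMod.USSdet f r L) (BunMod.USSdet f r L') where
  fwd {T} E := CohB1.tensorMod (E : (PicF.XT f T).Modules) (cst f T R)
  inv {T} E := CohB1.tensorMod (E : (PicF.XT f T).Modules) (cst f T R')
  ok_to _ h := ⟨trivial, ussDetOK_tw hdim hR e h.2⟩
  ok_inv _ h := ⟨trivial, ussDetOK_tw hdim hR' e' h.2⟩
  ok_pull g _ h := ⟨trivial, ussDetOK_pull g h.2⟩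
  ok_pull' g _ h := ⟨trivial, ussDetOK_pull g h.2⟩
  pull_to g E _ := r_of_iso f (pull_tw g R E)
  pull_inv g E _ := r_of_iso f (pull_tw g R' E)
  resp_to _ _ _ _ h := r_tens h _
  resp_inv _ _ _ _ h := r_tens h _
  to_inv E _ := r_of_iso f (tw_tw (by
    obtain ⟨a⟩ := hRR
    obtain ⟨b⟩ := tens_comm R' R
    exact ⟨b ≪≫ a⟩) E)
  inv_to E _ := r_of_iso f (tw_tw hRR E)

end eqv

end K757.DetM0
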