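import Groth.Agent.BunMod.K757.Uni
import Groth.Agent.BunMod.K757.DetM0

/-!
# The atlas of a given moduli space

`ofIso A e : AtlasC k X Q` for `e : A.M ≅ M'`: the same atlas with quotient `M'` (`(ofIso A e).M = M'` by `rfl`).
`exists_ofIso`: for `(M', φ)` ANY best approximation of the problem `Q` there is `e : A.M ≅ M'` with
`φ (c^* E) = c ≫ (ofIso A e).π`; moreover `φ` is universal (`UnivBest φ`).
-/

set_option autoImplicit false
universe u
open CategoryTheory CategoryTheory.Limits AlgebraicGeometry TopologicalSpace TensorProduct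

namespace K757.OnM

open K140.BM K757.FromAtlas K757.HomOver K757.Uni

section gen

variable {k : Type u} [Field k] {Z M M' : Over (B0 k)} (π : Z ⟶ M) (e : M ≅ M')

theorem isIso_left : IsIso e.hom.left := inferInstanceAs (IsIso ((Over.forget _).map e.hom))

theorem bij_app (V : M'.left.Opens) : Function.Bijective (e.hom.left.app V) := by
  have := isIso_left e
  exact ConcreteCategory.bijective_of_isIso (e.hom.left.app V)

theorem app_comp (V : M'.left.Opens) (h : Γ(M'.left, V)) :
    (π ≫ e.hom).left.app V h = π.left.app (e.hom.left ⁻¹ᵁ V) (e.hom.left.app V h) := rfl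

theorem exists_preimage (V : M.left.Opens) : ∃ V' : M'.left.Opens, e.hom.left ⁻¹ᵁ V' = V := by
  refine ⟨e.inv.left ⁻¹ᵁ V, ?_⟩
  rw [← Scheme.Hom.comp_preimage, ← Over.comp_left, e.hom_inv_id]
  rfl

theorem isReynolds_comp {IsAct : (Z ⟶ Z) → Prop} {V : M'.left.Opens}
    (h : IsReynolds π IsAct (e.hom.left ⁻¹ᵁ V)) : IsReynolds (π ≫ e.hom) IsAct V := by
  obtain ⟨ρ, h1, h2, h3, h4⟩ := h
  refine ⟨ρ, fun f => ?_, fun h => h2 (e.hom.left.app V h), fun h f => h3 (e.hom.left.app V h) f, h4⟩
  obtain ⟨h, hh⟩ := h1 f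
  obtain ⟨h', rfl⟩ := (bij_app e V).2 h
  exact ⟨h', hh⟩

end gen

variable {k : Type u} [Field k] {X : Scheme.{u}} [X.Over (Spec (CommRingCat.of k))]
  {Q : ∀ T : Over (B0 k), (ModFun.modProb (st k X)).Fam T → Prop} (A : AtlasC k X Q)

/-- The atlas with an isomorphic quotient. -/
noncomputable def ofIso {M' : Over (B0 k)} (e : A.M ≅ M') : AtlasC k X Q where
  Z := A.Z
  M := M'
  E := A.E
  π := A.π ≫ e.hom
  ok := A.ok
  lift := A.lift
  a := A.a
  b := A.b
  act := A.act
  act_nat := A.act_nat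
  act_one := A.act_one
  act_mul := A.act_mul
  act_E := A.act_E
  orb := A.orb
  ft := A.ft
  qc := A.qc
  sep := A.sep
  aff := by
    have := A.aff
    have := isIso_left e
    exact inferInstanceAs (IsAffineHom (A.π.left ≫ e.hom.left))
  prop := by
    have := A.prop
    have := isIso_left e.symm
    rw [← Over.w e.inv]
    exact inferInstanceAs (IsProper (e.symm.hom.left ≫ A.M.hom))
  surj := by
    have h1 : Function.Surjective e.hom.left := by
      have := isIso_left e
      exact (Scheme.homeoOfIso (asIso e.hom.left)).surjective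
    exact h1.comp A.surj
  act_π u v c := by rw [← Category.assoc, A.act_π, Category.assoc]
  functions V hV := by
    have := isIso_left e
    obtain ⟨h1, h2⟩ := A.functions (e.hom.left ⁻¹ᵁ V) (hV.preimage e.hom.left)
    refine ⟨h1.comp (bij_app e V).1, fun f hf => ?_⟩
    obtain ⟨h, hh⟩ := h2 f hf
    obtain ⟨h', rfl⟩ := (bij_app e V).2 h
    exact ⟨h', hh⟩
  charts m := by
    obtain ⟨V₀, hm, hV, hR⟩ := A.charts (e.inv.left m)
    obtain ⟨V, rfl⟩ := exists_preimage e V₀
    have hm' : e.hom.left (e.inv.left m) = m := by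
      rw [← Scheme.Hom.comp_apply, ← Over.comp_left, e.inv_hom_id]
      rfl
    have hVm : m ∈ V := by
      have : e.hom.left (e.inv.left m) ∈ V := hm
      rwa [hm'] at this
    refine ⟨V, hVm, ?_, isReynolds_comp A.π e hR⟩
    have := isIso_left e
    have hVe : e.inv.left ⁻¹ᵁ (e.hom.left ⁻¹ᵁ V) = V := by
      rw [← Scheme.Hom.comp_preimage, ← Over.comp_left, e.inv_hom_id]
      rfl
    have := isIso_left e.symm
    rw [← hVe]
    exact hV.preimage e.symm.hom.left
  isClosed W hW hs := by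
    have := isIso_left e
    have h1 := (Scheme.homeoOfIso (asIso e.hom.left)).isClosedMap _ (A.isClosed W hW hs)
    have h2 : (A.π ≫ e.hom).left '' W = (Scheme.homeoOfIso (asIso e.hom.left)) '' (A.π.left '' W) := by
      rw [Set.image_image]
      rfl
    rw [h2]
    exact h1
  disj W W' hW hW' hd hs hs' := by
    have := isIso_left e
    have h1 := A.disj W W' hW hW' hd hs hs'
    have h2 : ∀ W : Set A.Z.left, (A.π ≫ e.hom).left '' W =
        (Scheme.homeoOfIso (asIso e.hom.left)) '' (A.π.left '' W) := by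
      intro W
      rw [Set.image_image]
      rfl
    rw [h2, h2]
    exact (Set.disjoint_image_iff (Scheme.homeoOfIso (asIso e.hom.left)).injective).2 h1
  cat N ψ hψ := by
    obtain ⟨χ, h1, h2⟩ := A.cat N ψ hψ
    refine ⟨e.inv ≫ χ, by simpa using h1, fun χ' h' => ?_⟩
    rw [← h2 (e.hom ≫ χ') (by simpa using h'), e.inv_hom_id_assoc]

@[simp]
theorem ofIso_π {M' : Over (B0 k)} (e : A.M ≅ M') : (ofIso A e).π = A.π ≫ e.hom := rfl

/-- Any best approximation of a problem with an atlas is the quotient of an atlas, and is universal. -/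
theorem exists_ofIso (hQ : ∀ {T T' : Over (B0 k)} (g : T' ⟶ T) (F : (PicF.XT (st k X) T).Modules), Q T F →
    Q T' (Fam.pl (st k X) g F)) {M' : Over (B0 k)} {φ : ((ModFun.modProb (st k X)).restrict Q).Hom ⊤ M'}
    (hM : ModFun.IsBestApprox ⊤ ((ModFun.modProb (st k X)).restrict Q) M' φ) :
    UnivBest φ ∧ ∃ e : A.M ≅ M', ∀ (T : Over (B0 k)) (c : T ⟶ A.Z)
      (h : ((ModFun.modProb (st k X)).restrict Q).ok T (pl k X c A.E)),
      φ.app T (pl k X c A.E) trivial h = c ≫ (ofIso A e).π := by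
  have h1 := univBest' A hQ
  refine ⟨h1.of_best hM, ?_⟩
  obtain ⟨e, he⟩ := exists_iso h1.best hM
  refine ⟨e, fun T c h => ?_⟩
  exact (he T _ h).trans ((congrArg (· ≫ e.hom) (phi_E (toAtlas A) c h)).trans (Category.assoc _ _ _))

/-- Semistable bundles of degree `0`: the atlas on a given moduli space `M`. -/
theorem exists_uss [IsProper (X ↘ Spec (CommRingCat.of k))] [Smooth (X ↘ Spec (CommRingCat.of k))]
    [GeometricallyConnected (X ↘ Spec (CommRingCat.of k))] {r : ℕ} {d : ℤ}
    (A : AtlasC k X (BunMod.ussOK (st k X) r d)) {M : Over (B0 k)} {φ : (BunMod.USS (st k X) r d).Hom ⊤ M}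
    (hM : ModFun.IsBestApprox ⊤ (BunMod.USS (st k X) r d) M φ) :
    UnivBest φ ∧ ∃ e : A.M ≅ M, ∀ (T : Over (B0 k)) (c : T ⟶ A.Z)
      (h : (BunMod.USS (st k X) r d).ok T (pl k X c A.E)), φ.app T (pl k X c A.E) trivial h = c ≫ (ofIso A e).π :=
  exists_ofIso A (fun g _ h => Geo.ussOK_pull g h) hM

/-- Semistable bundles with determinant `L`: the atlas on a given moduli space `M`. -/
theorem exists_ussdet {r : ℕ} {L : X.Modules}
    (A : AtlasC k X (BunMod.ussDetOK (st k X) r L)) {M : Over (B0 k)} {φ : (BunMod.USSdet (st k X) r L).Hom ⊤ M}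
    (hM : ModFun.IsBestApprox ⊤ (BunMod.USSdet (st k X) r L) M φ) :
    UnivBest φ ∧ ∃ e : A.M ≅ M, ∀ (T : Over (B0 k)) (c : T ⟶ A.Z)
      (h : (BunMod.USSdet (st k X) r L).ok T (pl k X c A.E)), φ.app T (pl k X c A.E) trivial h = c ≫ (ofIso A e).π :=
  exists_ofIso A (fun g _ h => DetM0.ussDetOK_pull g h) hM

end K757.OnM
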