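import Groth.Agent.BunMod.K757.Act
import Groth.Agent.BunMod.K757.Geo
import Groth.Agent.Jac.K914.Fine
import Groth.Agent.JacVar.K532.Base
import Groth.Agent.S7638
import Groth.Prelude.Def_Jac

/-!
# The Jacobian acts on the problem of semistable bundles

`K757.TwistUSS.FineJ f J ψ`: a universal line bundle of degree `0` on `X × J`, fine in the sense of `ModFun`.
`exists_fineJ`: it exists for the Jacobian of a curve with a rational point.
`twist`: the action of `J` on `BunMod.USS f r d`; `det_twist`: the determinant of a twist.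
-/

set_option autoImplicit false
universe u
open CategoryTheory CategoryTheory.Limits AlgebraicGeometry MonoidalCategory CartesianMonoidalCategory MonObj

namespace K757.TwistUSS

open Groth.Agent K757.Fam K757.Geo K757.HomOver K757.Act

section fine

variable {k : Type u} [Field k] {X : Scheme.{u}} (f : X ⟶ Spec (CommRingCat.of k))
  (J : Over (Spec (CommRingCat.of k))) [GrpObj J] (ψ : (ModFun.PicDeg f 0).Hom ⊤ J)

/-- A universal line bundle of degree `0` on `X × J`. -/
structure FineJ where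
  /-- the universal line bundle -/
  P : (PicF.XT f J).Modules
  ok : (ModFun.PicDeg f 0).ok J P
  psi : ψ.app J P trivial ok = 𝟙 J
  fine : ∀ (T : Over (Spec (CommRingCat.of k))) (L : (PicF.XT f T).Modules) (hL : (ModFun.PicDeg f 0).ok T L),
    (ModFun.modProb f).r T (pl f (ψ.app T L trivial hL) P) L
  mul : ∀ (T : Over (Spec (CommRingCat.of k))) (L M N : (PicF.XT f T).Modules) (hL : (ModFun.PicDeg f 0).ok T L)
    (hM : (ModFun.PicDeg f 0).ok T M) (hN : (ModFun.PicDeg f 0).ok T N), Nonempty (N ≅ CohB1.tensorMod L M) →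
    ψ.app T N trivial hN = ψ.app T L trivial hL * ψ.app T M trivial hM

variable {f J ψ} {T T' : Over (Spec (CommRingCat.of k))}

namespace FineJ

variable (D : FineJ f J ψ)

/-- The line bundle attached to a point of `J`. -/
noncomputable abbrev at' (l : T ⟶ J) : (PicF.XT f T).Modules := pl f l D.P

theorem ok_at (l : T ⟶ J) : (ModFun.PicDeg f 0).ok T (D.at' l) := picDeg_pull l D.ok

theorem inv_at (l : T ⟶ J) : PicF.IsInvertible (D.at' l) := (picDeg_ok_iff.1 (D.ok_at l)).1

theorem psi_at (l : T ⟶ J) (h : (ModFun.PicDeg f 0).ok T (D.at' l)) : ψ.app T (D.at' l) trivial h = l := by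
  have h1 := ψ.natural l D.P trivial trivial D.ok h
  rw [D.psi, Category.comp_id] at h1
  exact h1

include D in
theorem psi_eq_iff {L L' : (PicF.XT f T).Modules} (hL : (ModFun.PicDeg f 0).ok T L)
    (hL' : (ModFun.PicDeg f 0).ok T L') :
    ψ.app T L trivial hL = ψ.app T L' trivial hL' ↔ (ModFun.modProb f).r T L L' := by
  constructor
  · intro h
    have h1 := D.fine T L hL
    have h2 := D.fine T L' hL'
    rw [h] at h1
    exact r_trans (r_symm h1) h2
  · exact ψ.resp L L' trivial hL hL'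

include D in
theorem psi_one (h : (ModFun.PicDeg f 0).ok T (Coh.structureModule (PicF.XT f T))) :
    ψ.app T (Coh.structureModule (PicF.XT f T)) trivial h = 1 := by
  obtain ⟨e⟩ := tens_unit (Coh.structureModule (PicF.XT f T))
  have h1 := D.mul T _ _ _ h h h ⟨e.symm⟩
  exact (mul_eq_left.1 h1.symm)

theorem at_one : (ModFun.modProb f).r T (D.at' (1 : T ⟶ J)) (Coh.structureModule (PicF.XT f T)) := by
  rw [← D.psi_eq_iff (D.ok_at _) picDeg_one, D.psi_at, D.psi_one]

variable [IsProper f] [Smooth f] [GeometricallyConnected f] (hdim : topologicalKrullDim X = 1)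

include hdim in
theorem at_mul (l l' : T ⟶ J) :
    (ModFun.modProb f).r T (D.at' (l * l')) (CohB1.tensorMod (D.at' l) (D.at' l')) := by
  have h := picDeg_mul hdim (D.ok_at l) (D.ok_at l')
  rw [add_zero] at h
  rw [← D.psi_eq_iff (D.ok_at _) h, D.psi_at, D.mul T _ _ _ (D.ok_at l) (D.ok_at l') h ⟨Iso.refl _⟩, D.psi_at,
    D.psi_at]

omit [GrpObj J] in
include hdim in
theorem picDeg_pow {L : (PicF.XT f T).Modules} (hL : (ModFun.PicDeg f 0).ok T L) (n : ℕ) :
    (ModFun.PicDeg f 0).ok T (CohB1.tensorPow L n) := by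
  induction n with
  | zero => exact picDeg_one
  | succ n ih =>
    have h := picDeg_mul hdim ih hL
    rwa [add_zero] at h

include D hdim in
theorem psi_pow {L : (PicF.XT f T).Modules} (hL : (ModFun.PicDeg f 0).ok T L) (n : ℕ)
    (h : (ModFun.PicDeg f 0).ok T (CohB1.tensorPow L n)) :
    ψ.app T (CohB1.tensorPow L n) trivial h = (ψ.app T L trivial hL) ^ n := by
  induction n with
  | zero => rw [pow_zero]; exact D.psi_one h
  | succ n ih =>
    have h1 := picDeg_pow hdim hL n
    rw [pow_succ, ← ih h1]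
    exact D.mul T _ _ _ h1 hL h ⟨Iso.refl _⟩

omit [IsProper f] [Smooth f] [GeometricallyConnected f] in
theorem pull_tens_at {T' : Over (Spec (CommRingCat.of k))} (g : T' ⟶ T) (l : T ⟶ J) (E : (PicF.XT f T).Modules) :
    Nonempty (pl f g (CohB1.tensorMod E (D.at' l)) ≅ CohB1.tensorMod (pl f g E) (D.at' (g ≫ l))) := by
  obtain ⟨e⟩ := pl_tens f g E (D.at' l)
  obtain ⟨e1⟩ := pl_comp f l g D.P
  obtain ⟨e2⟩ := tens_congr ⟨Iso.refl (pl f g E)⟩ ⟨e1.symm⟩
  exact ⟨e ≪≫ e2⟩

omit [IsProper f] [Smooth f] [GeometricallyConnected f] in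
theorem r_tens_one (E : (PicF.XT f T).Modules) :
    (ModFun.modProb f).r T (CohB1.tensorMod E (D.at' (1 : T ⟶ J))) E :=
  r_trans (r_tens' D.at_one E) (r_of_iso f (tens_unit E))

include hdim in
theorem r_tens_mul (l l' : T ⟶ J) (E : (PicF.XT f T).Modules) :
    (ModFun.modProb f).r T (CohB1.tensorMod E (D.at' (l * l')))
      (CohB1.tensorMod (CohB1.tensorMod E (D.at' l')) (D.at' l)) := by
  refine r_trans (r_tens' (D.at_mul hdim l l') E) (r_of_iso f ?_)
  obtain ⟨e1⟩ := tens_congr ⟨Iso.refl E⟩ (tens_comm (D.at' l) (D.at' l'))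
  obtain ⟨e2⟩ := tens_assoc E (D.at' l') (D.at' l)
  exact ⟨e1 ≪≫ e2.symm⟩

include hdim in
theorem ussOK_at {r : ℕ} {d : ℤ} (l : T ⟶ J) {E : (PicF.XT f T).Modules} (h : BunMod.ussOK f r d T E) :
    BunMod.ussOK f r d T (CohB1.tensorMod E (D.at' l)) := by
  have h1 := ussOK_tw (e := 0) hdim h (D.ok_at l)
  rwa [mul_zero, add_zero] at h1

/-- The action of the Jacobian on the problem of semistable bundles. -/
noncomputable def twist (r : ℕ) (d : ℤ) : Twist (BunMod.USS f r d) J where
  tw {T} l E := CohB1.tensorMod (E : (PicF.XT f T).Modules) (D.at' l)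
  ok_pull g _ h := ⟨trivial, ussOK_pull g h.2⟩
  ok_tw l _ h := ⟨trivial, D.ussOK_at hdim l h.2⟩
  pull_tw g l E _ := r_of_iso f (D.pull_tens_at g l E)
  resp_tw l _ _ _ _ h := r_tens h (D.at' l)
  tw_one E _ := D.r_tens_one E
  tw_mul l l' E _ := D.r_tens_mul hdim l l' E

theorem twist_tw (r : ℕ) (d : ℤ) (l : T ⟶ J) (E : (PicF.XT f T).Modules) :
    (D.twist hdim r d).tw l E = CohB1.tensorMod E (D.at' l) := rfl

end FineJ

end fine

section exist

variable {k : Type u} [Field k] {X : Scheme.{u}} {f : X ⟶ Spec (CommRingCat.of k)}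
  [IsProper f] [Smooth f] [GeometricallyConnected f] (hdim : topologicalKrullDim X = 1)
  (σ : Spec (CommRingCat.of k) ⟶ X) (hσ : σ ≫ f = 𝟙 (Spec (CommRingCat.of k)))
  {J : Over (Spec (CommRingCat.of k))} [GrpObj J] {ψ : (ModFun.PicDeg f 0).Hom ⊤ J}

open Grpsch.PicGrp K914.Cls K914.Fine Fga.RigGrp Fga.JacSum in
include hdim hσ in
/-- The Jacobian of a curve with a rational point carries a universal line bundle. -/
theorem exists_fineJ (hJ : Jac.IsJacobian f ⊤ J ψ) : Nonempty (FineJ f J ψ) := by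
  have := K532.Base.smoothOfRelDim f hdim
  obtain ⟨J₀, _, ξ₀, -, -, h₀⟩ := K914.Fine.exists_isJac f σ hσ
  obtain ⟨ξ, hξ, h1, h2⟩ := K914.Fine.exists_univ h₀ hJ.coarse
  obtain ⟨P, hP, rfl⟩ := exists_mk ξ
  have hok : (ModFun.PicDeg f 0).ok J P := (ok_iff hP).2 hξ
  refine ⟨⟨P, hok, ?_, fun T L hL => ?_, fun T L M N hL hM hN e => hJ.mul T trivial L M N hL hM hN e⟩⟩
  · rw [app_eq ψ trivial hok _ hξ rfl, h1]
  · obtain ⟨m, hm⟩ := h2 T (mk L (isInvertible_of_ok hL)) (isDeg_of_ok hL)
    obtain ⟨M, hM, rfl⟩ := exists_mk m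
    rw [← app_eq' ψ trivial hL, pull_mk, pull_mk, mk_mul_mk, mk_eq_iff] at hm
    exact ⟨M, hM, hm⟩

end exist

end K757.TwistUSS
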