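import Groth.Agent.BunMod.K757.HomOver
import Mathlib.CategoryTheory.Monoidal.Cartesian.CommGrp_
import Mathlib.CategoryTheory.Monoidal.Cartesian.Grp

/-!
# The action of a group of twists on a moduli space, and the square over multiplication by `r`

`K757.Act.Twist F J`: an action of the group `J` on the moduli problem `F` (up to the identifications of `F`).
If `M` corepresents `F` universally:
* `K757.Act.act : M ⊗ J ⟶ M`, `act_app : lift (φ x) l ≫ act = φ (l • x)`, `act_one`, `act_mul`;
* `K757.Act.act_dm`: if `dm (φ (l • x)) = l ^ r * dm (φ x)` then the same on all points of `M`;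
* `K757.Act.isPullback`: `M₀ ⊗ J ⟶ M` is the base change of `[r] : J ⟶ J` along `dm`, `M₀` the fibre of `dm` over `1`.
-/

set_option autoImplicit false
universe u
open CategoryTheory CategoryTheory.Limits AlgebraicGeometry MonoidalCategory CartesianMonoidalCategory MonObj

namespace K757.Act

open K757.HomOver

variable {S : Scheme.{u}}

/-- An action of the group scheme `J` on the moduli problem `F`, up to the identifications of `F`. -/
structure Twist (F : ModFun.Problem.{u + 1} S) (J : Over S) [GrpObj J] where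
  /-- the twist of the family `x` by the point `l` -/
  tw : ∀ {T : Over S}, (T ⟶ J) → F.Fam T → F.Fam T
  ok_pull : ∀ {T T' : Over S} (g : T' ⟶ T) (x : F.Fam T), F.ok T x → F.ok T' (F.pull g x)
  ok_tw : ∀ {T : Over S} (l : T ⟶ J) (x : F.Fam T), F.ok T x → F.ok T (tw l x)
  pull_tw : ∀ {T T' : Over S} (g : T' ⟶ T) (l : T ⟶ J) (x : F.Fam T), F.ok T x →
    F.r T' (F.pull g (tw l x)) (tw (g ≫ l) (F.pull g x))
  resp_tw : ∀ {T : Over S} (l : T ⟶ J) (x x' : F.Fam T), F.ok T x → F.ok T x' → F.r T x x' →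
    F.r T (tw l x) (tw l x')
  tw_one : ∀ {T : Over S} (x : F.Fam T), F.ok T x → F.r T (tw 1 x) x
  tw_mul : ∀ {T : Over S} (l l' : T ⟶ J) (x : F.Fam T), F.ok T x → F.r T (tw (l * l') x) (tw l (tw l' x))

variable {F : ModFun.Problem.{u + 1} S} {M : Over S} {φ : F.Hom ⊤ M} (h : UnivBest φ) {J : Over S} [GrpObj J]
  (a : Twist F J)

include h in
theorem exists_act : ∃! q : M ⊗ J ⟶ M, ∀ (T : Over S) (x : F.Fam T) (hx : F.ok T x) (l : T ⟶ J),
    lift (φ.app T x trivial hx) l ≫ q = φ.app T (a.tw l x) trivial (a.ok_tw l x hx) := by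
  refine h.existsUnique_prod a.ok_pull J (N := M) (fun T x hx l => φ.app T (a.tw l x) trivial (a.ok_tw l x hx)) ?_ ?_
  · intro T T' g x hx l
    rw [← φ.natural g _ trivial trivial (a.ok_tw l x hx) (a.ok_pull g _ (a.ok_tw l x hx))]
    exact (φ.resp _ _ trivial _ _ (a.pull_tw g l x hx)).symm
  · intro T x x' hx hx' l hr
    exact φ.resp _ _ trivial _ _ (a.resp_tw l x x' hx hx' hr)

/-- The action of `J` on `M`. -/
noncomputable def act : M ⊗ J ⟶ M := (exists_act h a).choose

theorem act_app {T : Over S} (x : F.Fam T) (hx : F.ok T x) (l : T ⟶ J) :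
    lift (φ.app T x trivial hx) l ≫ act h a = φ.app T (a.tw l x) trivial (a.ok_tw l x hx) :=
  (exists_act h a).choose_spec.1 T x hx l

/-- The action on points. -/
noncomputable def smul {T : Over S} (l : T ⟶ J) (m : T ⟶ M) : T ⟶ M := lift m l ≫ act h a

theorem comp_smul {T T' : Over S} (g : T' ⟶ T) (l : T ⟶ J) (m : T ⟶ M) :
    g ≫ smul h a l m = smul h a (g ≫ l) (g ≫ m) := by
  rw [smul, smul, ← Category.assoc, comp_lift]

theorem smul_app {T : Over S} (x : F.Fam T) (hx : F.ok T x) (l : T ⟶ J) :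
    smul h a l (φ.app T x trivial hx) = φ.app T (a.tw l x) trivial (a.ok_tw l x hx) := act_app h a x hx l

theorem one_smul {T : Over S} (m : T ⟶ M) : smul h a 1 m = m := by
  refine h.hom_ext m ?_
  intro T' x hx t ht
  rw [comp_smul, comp_one, ht, smul_app]
  exact φ.resp _ _ trivial _ _ (a.tw_one x hx)

theorem mul_smul {T : Over S} (l l' : T ⟶ J) (m : T ⟶ M) : smul h a (l * l') m = smul h a l (smul h a l' m) := by
  refine h.hom_ext m ?_
  intro T' x hx t ht
  rw [comp_smul, comp_smul, comp_smul, comp_mul, ht, smul_app, smul_app, smul_app]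
  exact φ.resp _ _ trivial _ _ (a.tw_mul _ _ x hx)

section det

variable (r : ℕ) (dm : M ⟶ J)
  (hdm : ∀ (T : Over S) (x : F.Fam T) (hx : F.ok T x) (l : T ⟶ J),
    φ.app T (a.tw l x) trivial (a.ok_tw l x hx) ≫ dm = l ^ r * (φ.app T x trivial hx ≫ dm))

include hdm

theorem smul_dm {T : Over S} (l : T ⟶ J) (m : T ⟶ M) : smul h a l m ≫ dm = l ^ r * (m ≫ dm) := by
  refine h.hom_ext m ?_
  intro T' x hx t ht
  rw [← Category.assoc, comp_smul, ht, smul_app, hdm, comp_mul, ← Category.assoc, ht, comp_pow]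

variable {M₀ : Over S} (i : M₀ ⟶ M) (hi : IsPullback i (toUnit M₀) dm η[J])

include hi

omit hdm in
theorem comp_dm_eq_one {T : Over S} (t : T ⟶ M₀) : (t ≫ i) ≫ dm = 1 := by
  rw [Category.assoc, hi.w, ← Category.assoc, Hom.one_def]
  congr 1
  exact toUnit_unique _ _

/-- The square over multiplication by `r`. -/
theorem isPullback : IsPullback ((i ▷ J) ≫ act h a) (CartesianMonoidalCategory.snd M₀ J) dm ((𝟙 J) ^ r) := by
  have hw : ((i ▷ J) ≫ act h a) ≫ dm = CartesianMonoidalCategory.snd M₀ J ≫ (𝟙 J) ^ r := by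
    have h1 : (i ▷ J) ≫ act h a = smul h a (CartesianMonoidalCategory.snd M₀ J)
        (CartesianMonoidalCategory.fst M₀ J ≫ i) := by
      rw [smul]
      congr 1
    rw [h1, smul_dm h a r dm hdm, comp_dm_eq_one dm i hi, _root_.mul_one, comp_pow, Category.comp_id]
  refine ⟨⟨hw⟩, ⟨PullbackCone.IsLimit.mk _ (fun s => ?_) (fun s => ?_) (fun s => ?_) (fun s m h1 h2 => ?_)⟩⟩
  · refine lift (hi.lift (smul h a s.snd⁻¹ s.fst) (toUnit _) ?_) s.snd
    rw [smul_dm h a r dm hdm, s.condition, comp_pow, Category.comp_id, inv_pow, inv_mul_cancel, Hom.one_def]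
  · rw [← Category.assoc]
    have h1 : ∀ (c : s.pt ⟶ M₀) (d : s.pt ⟶ J), lift c d ≫ i ▷ J = lift (c ≫ i) d := by
      intro c d
      apply CartesianMonoidalCategory.hom_ext <;> simp
    rw [h1, IsPullback.lift_fst]
    change smul h a _ _ = _
    rw [← mul_smul, mul_inv_cancel, one_smul]
  · exact lift_snd _ _
  · have h3 : m = lift (m ≫ CartesianMonoidalCategory.fst M₀ J) s.snd := by
      apply CartesianMonoidalCategory.hom_ext
      · rw [lift_fst]
      · rw [lift_snd, h2]
    rw [h3]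
    congr 1
    refine hi.hom_ext ?_ (toUnit_unique _ _)
    rw [IsPullback.lift_fst, ← h1]
    have h4 : m ≫ (i ▷ J) ≫ act h a = smul h a s.snd ((m ≫ CartesianMonoidalCategory.fst M₀ J) ≫ i) := by
      rw [smul, ← Category.assoc]
      congr 1
      apply CartesianMonoidalCategory.hom_ext
      · simp
      · simp [h2]
    rw [h4, ← mul_smul, inv_mul_cancel, one_smul]

end det

end K757.Act
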