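import Groth.Agent.BunMod.K757.Rey
import Groth.Agent.SGA3x.K7.EpiKer
import Mathlib.AlgebraicGeometry.AffineScheme
import Mathlib.AlgebraicGeometry.Morphisms.Affine
import Mathlib.AlgebraicGeometry.Restrict
import Mathlib.AlgebraicGeometry.Gluing

/-!
# Good quotients are categorical quotients

`f : W ⟶ Y` affine with endomorphisms `𝒢` of `W` over `Y` and Reynolds operators over the affine opens of a base of `Y`.
Then `f` is surjective, `O_Y ⟶ f_* O_W` injective, `f` is an epimorphism over every open, and every morphism `W ⟶ N`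
invariant under `𝒢` factors through `Y`, uniquely (`K757.CatQ.existsUnique`).
-/

set_option autoImplicit false
universe u
open CategoryTheory CategoryTheory.Limits AlgebraicGeometry TopologicalSpace Opposite

namespace K757.CatQ

open K757.Rey

/-- The endomorphisms of `Γ(W, O)` induced by the endomorphisms in `𝒢`. -/
def endo {W : Scheme.{u}} (𝒢 : (W ⟶ W) → Prop) (O : W.Opens) (g : Γ(W, O) →+* Γ(W, O)) : Prop :=
  ∃ (γ : W ⟶ W) (_ : 𝒢 γ) (e : O ≤ γ ⁻¹ᵁ O), g = (γ.appLE O O e).hom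

/-- Reynolds operators over a base of affine opens. -/
structure Good {W Y : Scheme.{u}} (f : W ⟶ Y) (𝒢 : (W ⟶ W) → Prop) (P : Y.Opens → Prop) : Prop where
  cov : ∀ y : Y, ∃ U, y ∈ U ∧ P U
  mono : ∀ U U' : Y.Opens, U' ≤ U → P U → P U'
  comp : ∀ γ, 𝒢 γ → γ ≫ f = f
  rey : ∀ U, IsAffineOpen U → P U → ∃ r, IsRey (f.app U).hom (endo 𝒢 (f ⁻¹ᵁ U)) r

variable {W Y : Scheme.{u}} {f : W ⟶ Y} [IsAffineHom f] {𝒢 : (W ⟶ W) → Prop} {P : Y.Opens → Prop} (h : Good f 𝒢 P)

include h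

omit [IsAffineHom f] in
theorem Good.exists_affine (y : Y) (V : Y.Opens) (hy : y ∈ V) : ∃ U : Y.Opens, y ∈ U ∧ U ≤ V ∧ IsAffineOpen U ∧ P U := by
  obtain ⟨U, hU, hPU⟩ := h.cov y
  obtain ⟨U', hU', hy', hle⟩ := exists_isAffineOpen_mem_and_subset (x := y) (U := U ⊓ V) ⟨hU, hy⟩
  exact ⟨U', hy', fun z hz => (hle hz).2, hU', h.mono U U' (fun z hz => (hle hz).1) hPU⟩

omit [IsAffineHom f] in
theorem Good.injective_app (V : Y.Opens) : Function.Injective (f.app V).hom := by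
  intro s t hst
  choose U hy hle hU hP using fun y : V => h.exists_affine y.1 V y.2
  refine Y.sheaf.eq_of_locally_eq' U V (fun y => homOfLE (hle y)) (fun y hy' => ?_) s t (fun y => ?_)
  · exact Opens.mem_iSup.2 ⟨⟨y, hy'⟩, hy _⟩
  · obtain ⟨r, hr⟩ := h.rey (U y) (hU y) (hP y)
    have hinj : Function.Injective (f.app (U y)).hom := fun a b hab => by rw [← hr.retr a, hab, hr.retr]
    apply hinj
    change (f.app (U y)).hom ((Y.presheaf.map (homOfLE (hle y)).op).hom s) =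
      (f.app (U y)).hom ((Y.presheaf.map (homOfLE (hle y)).op).hom t)
    have h1 : ∀ x : Γ(Y, V), (f.app (U y)).hom ((Y.presheaf.map (homOfLE (hle y)).op).hom x) =
        (W.presheaf.map (homOfLE (f.preimage_mono (hle y))).op).hom ((f.app V).hom x) := by
      intro x
      have := congrArg (fun z => z.hom x) (f.naturality (homOfLE (hle y)).op)
      exact this
    rw [h1, h1, hst]

theorem Good.surjective : Surjective f := by
  refine ⟨fun y => ?_⟩
  obtain ⟨U, hy, -, hU, hP⟩ := h.exists_affine y ⊤ trivial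
  obtain ⟨r, hr⟩ := h.rey U hU hP
  obtain ⟨p, hp⟩ : y ∈ Set.range hU.fromSpec := by rw [hU.range_fromSpec]; exact hy
  have h1 : (p : PrimeSpectrum Γ(Y, U)) ∈ Set.range (PrimeSpectrum.comap (f.app U).hom) := by
    refine (PrimeSpectrum.mem_range_comap_iff (f.app U).hom (p := (p : PrimeSpectrum Γ(Y, U)))).2 ?_
    refine le_antisymm ?_ Ideal.le_comap_map
    intro a ha
    have h2 : ∀ x ∈ p.asIdeal.map (f.app U).hom, ∀ c, r (c * x) ∈ p.asIdeal := by
      intro x hx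
      refine Submodule.span_induction (p := fun x _ => ∀ c, r (c * x) ∈ p.asIdeal) ?_ ?_ ?_ ?_ hx
      · rintro _ ⟨b, hb, rfl⟩ c
        rw [mul_comm, hr.lin]
        exact Ideal.mul_mem_right _ _ hb
      · intro c
        rw [mul_zero, map_zero]
        exact p.asIdeal.zero_mem
      · rintro x y - - hx hy c
        rw [mul_add, map_add]
        exact p.asIdeal.add_mem (hx c) (hy c)
      · rintro a x - hx c
        rw [smul_eq_mul, ← mul_assoc]
        exact hx _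
    have h3 := h2 _ ha 1
    rwa [one_mul, hr.retr] at h3
  obtain ⟨q, hq⟩ := h1
  refine ⟨(hU.preimage f).fromSpec q, ?_⟩
  rw [← Scheme.Hom.comp_apply, ← IsAffineOpen.SpecMap_appLE_fromSpec f hU (hU.preimage f) le_rfl,
    Scheme.Hom.comp_apply, ← hp, Scheme.Hom.appLE_eq_app]
  congr 1

set_option backward.isDefEq.respectTransparency false in
theorem Good.epi_restrict (U : Y.Opens) : Epi (f ∣_ U) := by
  have := h.surjective
  have : Surjective (f ∣_ U) := IsZariskiLocalAtTarget.restrict ‹_› U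
  refine K7.EpiKer.epi_of_app_injective (f ∣_ U) (fun V => ?_)
  rw [morphismRestrict_app]
  have h1 : Function.Injective (W.presheaf.map (eqToHom (image_morphismRestrict_preimage f U V)).op).hom :=
    (ConcreteCategory.bijective_of_isIso
      (W.presheaf.map (eqToHom (image_morphismRestrict_preimage f U V)).op)).injective
  rw [CommRingCat.hom_comp, RingHom.coe_comp]
  exact h1.comp (h.injective_app _)

theorem Good.epi : Epi f := by
  have := h.surjective
  exact K7.EpiKer.epi_of_app_injective f h.injective_app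

variable {N : Scheme.{u}} (ψ : W ⟶ N) (hψ : ∀ γ, 𝒢 γ → γ ≫ ψ = ψ)

include hψ

/-- Small affine opens of `Y` have preimages mapping into affine opens of `N`. -/
theorem Good.exists_chart (y : Y) : ∃ (U : Y.Opens) (N₀ : N.Opens), y ∈ U ∧ IsAffineOpen U ∧ P U ∧ IsAffineOpen N₀ ∧
    f ⁻¹ᵁ U ≤ ψ ⁻¹ᵁ N₀ := by
  obtain ⟨U, hy, -, hU, hP⟩ := h.exists_affine y ⊤ trivial
  obtain ⟨r, hr⟩ := h.rey U hU hP
  have hfU := hU.preimage f
  -- the ideal of functions vanishing outside of `ψ ⁻¹ N₀`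
  let I : N.Opens → Ideal Γ(W, f ⁻¹ᵁ U) := fun N₀ =>
    { carrier := {x | W.basicOpen x ≤ ψ ⁻¹ᵁ N₀}
      zero_mem' := by
        change W.basicOpen (0 : Γ(W, f ⁻¹ᵁ U)) ≤ _
        rw [Scheme.basicOpen_zero]
        exact bot_le
      add_mem' := fun {a b} ha hb => (W.basicOpen_add_le a b).trans (sup_le ha hb)
      smul_mem' := fun c x hx => by
        change W.basicOpen (c * x) ≤ _
        rw [Scheme.basicOpen_mul]
        exact inf_le_right.trans hx }
  have hI : ∀ (N₀ : N.Opens) (x : Γ(W, f ⁻¹ᵁ U)), x ∈ I N₀ ↔ W.basicOpen x ≤ ψ ⁻¹ᵁ N₀ := fun _ _ => Iff.rfl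
  have hstab : ∀ N₀ g, endo 𝒢 (f ⁻¹ᵁ U) g → ∀ x ∈ I N₀, g x ∈ I N₀ := by
    rintro N₀ _ ⟨γ, hγ, e, rfl⟩ x hx
    rw [hI] at hx ⊢
    have h1 : W.basicOpen ((γ.appLE (f ⁻¹ᵁ U) (f ⁻¹ᵁ U) e).hom x) ≤ γ ⁻¹ᵁ (W.basicOpen x) := by
      have := Scheme.basicOpen_appLE γ (f ⁻¹ᵁ U) (f ⁻¹ᵁ U) e x
      rw [this]
      exact inf_le_right
    refine h1.trans ((γ.preimage_mono hx).trans ?_)
    rw [← Scheme.Hom.comp_preimage, hψ γ hγ]
  let s : Set Γ(W, f ⁻¹ᵁ U) := {x | ∃ N₀ : N.Opens, IsAffineOpen N₀ ∧ x ∈ I N₀}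
  have hs : Ideal.span s = ⊤ := by
    rw [← hfU.iSup_basicOpen_eq_self_iff]
    refine le_antisymm (iSup_le fun x => W.basicOpen_le _) ?_
    intro w hw
    obtain ⟨N₀, hN₀, hwN, -⟩ := exists_isAffineOpen_mem_and_subset (x := ψ w) (U := (⊤ : N.Opens)) trivial
    obtain ⟨x, hx, hwx⟩ := hfU.exists_basicOpen_le (V := ψ ⁻¹ᵁ N₀) ⟨w, hwN⟩ hw
    exact Opens.mem_iSup.2 ⟨⟨x, N₀, hN₀, hx⟩, hwx⟩
  let s' : Set Γ(Y, U) := {a | ∃ N₀ : N.Opens, IsAffineOpen N₀ ∧ (f.app U).hom a ∈ I N₀}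
  have hs' : Ideal.span s' = ⊤ := by
    have key : ∀ x ∈ Ideal.span s, ∀ c : Γ(W, f ⁻¹ᵁ U), r (c * x) ∈ Ideal.span s' := by
      intro x hx
      refine Submodule.span_induction (p := fun x _ => ∀ c : Γ(W, f ⁻¹ᵁ U), r (c * x) ∈ Ideal.span s') ?_ ?_ ?_ ?_ hx
      · rintro x ⟨N₀, hN₀, hx⟩ c
        exact Ideal.subset_span ⟨N₀, hN₀, hr.stab (I N₀) (hstab N₀) _ ((I N₀).mul_mem_left _ hx)⟩
      · intro c
        rw [mul_zero, map_zero]
        exact (Ideal.span s').zero_mem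
      · rintro x y - - hx hy c
        rw [mul_add, map_add]
        exact (Ideal.span s').add_mem (hx c) (hy c)
      · rintro a x - hx c
        rw [smul_eq_mul, ← mul_assoc]
        exact hx _
    rw [Ideal.eq_top_iff_one]
    have h1 := key 1 (by rw [hs]; trivial) 1
    rwa [mul_one, ← map_one (f.app U).hom, hr.retr] at h1
  rw [← hU.iSup_basicOpen_eq_self_iff] at hs'
  rw [← hs'] at hy
  obtain ⟨⟨a, N₀, hN₀, ha⟩, hya⟩ := Opens.mem_iSup.1 hy
  refine ⟨Y.basicOpen a, N₀, hya, hU.basicOpen a, h.mono U _ (Y.basicOpen_le a) hP, hN₀, ?_⟩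
  rw [hI] at ha
  rwa [Scheme.preimage_basicOpen]

/-- Local factorization. -/
theorem Good.exists_local (y : Y) : ∃ (U : Y.Opens) (m : U.toScheme ⟶ N), y ∈ U ∧ f ∣_ U ≫ m = (f ⁻¹ᵁ U).ι ≫ ψ := by
  obtain ⟨U, N₀, hy, hU, hP, hN₀, hle⟩ := h.exists_chart ψ hψ y
  obtain ⟨r, hr⟩ := h.rey U hU hP
  have hfU := hU.preimage f
  have hinj : Function.Injective (f.app U).hom := h.injective_app U
  have hinv : ∀ n : Γ(N, N₀), (f.app U).hom (r ((ψ.appLE N₀ (f ⁻¹ᵁ U) hle).hom n)) =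
      (ψ.appLE N₀ (f ⁻¹ᵁ U) hle).hom n := by
    intro n
    apply hr.inv
    rintro _ ⟨γ, hγ, e, rfl⟩
    have h1 := Scheme.Hom.appLE_comp_appLE γ ψ N₀ (f ⁻¹ᵁ U) (f ⁻¹ᵁ U) hle e
    have h2 := congrArg (fun z => z.hom n) h1
    refine h2.trans ?_
    simp only [hψ γ hγ]
  let θ : Γ(N, N₀) →+* Γ(Y, U) :=
    { toFun := fun n => r ((ψ.appLE N₀ (f ⁻¹ᵁ U) hle).hom n)
      map_one' := hinj (by rw [hinv, map_one, map_one])
      map_mul' := fun a b => hinj (by rw [hinv, map_mul, map_mul, hinv, hinv])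
      map_zero' := hinj (by rw [hinv, map_zero, map_zero])
      map_add' := fun a b => hinj (by rw [hinv, map_add, map_add, hinv, hinv]) }
  have hθ : CommRingCat.ofHom θ ≫ f.app U = ψ.appLE N₀ (f ⁻¹ᵁ U) hle := by
    ext n
    exact hinv n
  refine ⟨U, hU.isoSpec.hom ≫ Spec.map (CommRingCat.ofHom θ) ≫ hN₀.fromSpec, hy, ?_⟩
  have h1 : f ∣_ U ≫ hU.isoSpec.hom = hfU.isoSpec.hom ≫ Spec.map (f.app U) := by
    rw [← cancel_mono hU.fromSpec, Category.assoc, IsAffineOpen.isoSpec_hom_fromSpec, morphismRestrict_ι,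
      Category.assoc, ← Scheme.Hom.appLE_eq_app, IsAffineOpen.SpecMap_appLE_fromSpec f hU hfU le_rfl,
      IsAffineOpen.isoSpec_hom_fromSpec_assoc]
  rw [← Category.assoc, h1, Category.assoc, ← Spec.map_comp_assoc, hθ,
    IsAffineOpen.SpecMap_appLE_fromSpec ψ hN₀ hfU hle, IsAffineOpen.isoSpec_hom_fromSpec_assoc]

/-- **A good quotient is a categorical quotient.** -/
theorem Good.existsUnique : ∃! q : Y ⟶ N, f ≫ q = ψ := by
  have hepi := h.epi
  choose U m hy hm using h.exists_local ψ hψ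
  let 𝒰 : Y.OpenCover := Y.openCoverOfIsOpenCover U (by
    rw [TopologicalSpace.IsOpenCover, eq_top_iff]
    intro t _
    exact Opens.mem_iSup.2 ⟨t, hy t⟩)
  have hcomp : ∀ x y : Y, pullback.fst (U x).ι (U y).ι ≫ m x = pullback.snd (U x).ι (U y).ι ≫ m y := by
    intro x y
    have hp := isPullback_opens_inf (U x) (U y)
    rw [← cancel_epi hp.isoPullback.hom, ← Category.assoc, ← Category.assoc, hp.isoPullback_hom_fst,
      hp.isoPullback_hom_snd]
    have := h.epi_restrict (U x ⊓ U y)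
    rw [← cancel_epi (f ∣_ (U x ⊓ U y))]
    have h1 : f ∣_ (U x ⊓ U y) ≫ Y.homOfLE inf_le_left =
        W.homOfLE (f.preimage_mono inf_le_left) ≫ f ∣_ (U x) := by
      rw [← cancel_mono (U x).ι, Category.assoc, Category.assoc, Scheme.homOfLE_ι, morphismRestrict_ι,
        morphismRestrict_ι, Scheme.homOfLE_ι_assoc]
    have h2 : f ∣_ (U x ⊓ U y) ≫ Y.homOfLE inf_le_right =
        W.homOfLE (f.preimage_mono inf_le_right) ≫ f ∣_ (U y) := by
      rw [← cancel_mono (U y).ι, Category.assoc, Category.assoc, Scheme.homOfLE_ι, morphismRestrict_ι,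
        morphismRestrict_ι, Scheme.homOfLE_ι_assoc]
    rw [← Category.assoc, h1, ← Category.assoc, h2, Category.assoc, Category.assoc, hm, hm,
      Scheme.homOfLE_ι_assoc, Scheme.homOfLE_ι_assoc]
  refine ⟨𝒰.glueMorphisms m hcomp, ?_, fun q' hq' => ?_⟩
  · refine Scheme.hom_ext_of_forall _ _ fun w => ⟨f ⁻¹ᵁ U (f w), hy _, ?_⟩
    rw [← morphismRestrict_ι_assoc]
    have := 𝒰.ι_glueMorphisms m hcomp (f w)
    change (U (f w)).ι ≫ _ = _ at this
    rw [this, hm]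
  · rw [← cancel_epi f, hq']
    symm
    refine Scheme.hom_ext_of_forall _ _ fun w => ⟨f ⁻¹ᵁ U (f w), hy _, ?_⟩
    rw [← morphismRestrict_ι_assoc]
    have := 𝒰.ι_glueMorphisms m hcomp (f w)
    change (U (f w)).ι ≫ _ = _ at this
    rw [this, hm]

end K757.CatQ
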