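import Groth.Agent.BunMod.K757.HomOver
import Groth.Agent.BunMod.K757.Fam
import Groth.Agent.BunMod.K140.Defs

/-!
# An atlas corepresents its moduli problem universally

`K757.FromAtlas.exists_univ`: for an atlas `A : K140.BM.Atlas k X Q` (with `Q` stable under pull-back and isomorphism),
there is `φ : ((modProb).restrict Q).Hom ⊤ A.M` with `φ (c^* E) = c ≫ π` and `K757.HomOver.UnivBest φ`.
-/

set_option autoImplicit false
universe u
open CategoryTheory CategoryTheory.Limits AlgebraicGeometry MonoidalCategory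

namespace K757.FromAtlas

open K757.HomOver K757.Fam
open K140.BM (B0 st Atlas)

section glue

variable {S : Scheme.{u}} {T N : Over S}

/-- An open subscheme of the base. -/
noncomputable abbrev opn (T : Over S) (U : T.left.Opens) : Over S := Over.mk (U.ι ≫ T.hom)

/-- The inclusion of an open subscheme of the base. -/
noncomputable abbrev opi (T : Over S) (U : T.left.Opens) : opn T U ⟶ T := Over.homMk U.ι rfl

/-- Morphisms are determined locally. -/
theorem hom_ext_loc {g g' : T ⟶ N} (h : ∀ t : T.left, ∃ U : T.left.Opens, t ∈ U ∧ opi T U ≫ g = opi T U ≫ g') :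
    g = g' := by
  apply Over.OverMorphism.ext
  refine Scheme.hom_ext_of_forall _ _ fun t => ?_
  obtain ⟨U, ht, e⟩ := h t
  exact ⟨U, ht, congrArg CommaMorphism.left e⟩

/-- Gluing of morphisms over `S` defined on open subschemes. -/
theorem exists_glue (R : ∀ U : T.left.Opens, (opn T U ⟶ N) → Prop)
    (hc : ∀ t : T.left, ∃ (U : T.left.Opens) (m : opn T U ⟶ N), t ∈ U ∧ R U m)
    (hR : ∀ (U U' : T.left.Opens) (m : opn T U ⟶ N) (m' : opn T U' ⟶ N), R U m → R U' m' →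
      ∀ (W : Over S) (a : W ⟶ opn T U) (a' : W ⟶ opn T U'), a ≫ opi T U = a' ≫ opi T U' → a ≫ m = a' ≫ m') :
    ∃ g : T ⟶ N, ∀ (U : T.left.Opens) (m : opn T U ⟶ N), R U m → opi T U ≫ g = m := by
  choose U m ht hm using hc
  let 𝒰 : T.left.OpenCover := T.left.openCoverOfIsOpenCover U (by
    rw [TopologicalSpace.IsOpenCover, eq_top_iff]
    intro t _
    exact TopologicalSpace.Opens.mem_iSup.2 ⟨t, ht t⟩)
  have hglue : ∀ x y : T.left, pullback.fst (U x).ι (U y).ι ≫ (m x).left = pullback.snd (U x).ι (U y).ι ≫ (m y).left := by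
    intro x y
    let W : Over S := Over.mk (pullback.fst (U x).ι (U y).ι ≫ (U x).ι ≫ T.hom)
    let a : W ⟶ opn T (U x) := Over.homMk (pullback.fst (U x).ι (U y).ι) rfl
    let a' : W ⟶ opn T (U y) := Over.homMk (pullback.snd (U x).ι (U y).ι) (by
      change _ ≫ (U y).ι ≫ T.hom = _ ≫ (U x).ι ≫ T.hom
      rw [← Category.assoc, ← Category.assoc, pullback.condition])
    exact congrArg CommaMorphism.left (hR _ _ _ _ (hm x) (hm y) W a a'
      (Over.OverMorphism.ext pullback.condition))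
  let g₀ : T.left ⟶ N.left := 𝒰.glueMorphisms (fun x => (m x).left) hglue
  have hg₀ : ∀ x, (U x).ι ≫ g₀ = (m x).left := fun x => 𝒰.ι_glueMorphisms _ hglue x
  have hw : g₀ ≫ N.hom = T.hom := by
    refine Scheme.hom_ext_of_forall _ _ fun t => ⟨U t, ht t, ?_⟩
    rw [← Category.assoc, hg₀]
    exact Over.w (m t)
  refine ⟨Over.homMk g₀ hw, fun V n hn => ?_⟩
  have key : ∀ x : T.left, pullback.fst V.ι (U x).ι ≫ V.ι ≫ g₀ = pullback.fst V.ι (U x).ι ≫ n.left := by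
    intro x
    let W : Over S := Over.mk (pullback.fst V.ι (U x).ι ≫ V.ι ≫ T.hom)
    let a : W ⟶ opn T V := Over.homMk (pullback.fst V.ι (U x).ι) rfl
    let a' : W ⟶ opn T (U x) := Over.homMk (pullback.snd V.ι (U x).ι) (by
      change _ ≫ (U x).ι ≫ T.hom = _ ≫ V.ι ≫ T.hom
      rw [← Category.assoc, ← Category.assoc, pullback.condition])
    have h := congrArg CommaMorphism.left (hR _ _ _ _ hn (hm x) W a a'
      (Over.OverMorphism.ext pullback.condition))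
    change pullback.fst V.ι (U x).ι ≫ n.left = pullback.snd V.ι (U x).ι ≫ (m x).left at h
    rw [h, ← hg₀, ← Category.assoc, pullback.condition, Category.assoc]
  apply Over.OverMorphism.ext
  change V.ι ≫ g₀ = n.left
  exact Scheme.Cover.hom_ext (𝒰.pullback₁ V.ι) _ _ key

end glue

section atlas

variable {k : Type u} [Field k] {X : Scheme.{u}} [X.Over (Spec (CommRingCat.of k))]
  {Q : ∀ T : Over (B0 k), (ModFun.modProb (st k X)).Fam T → Prop} (A : Atlas k X Q)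

/-- `g` classifies the family `F`. -/
def IsCl {T : Over (B0 k)} (F : (PicF.XT (st k X) T).Modules) (g : T ⟶ A.M) : Prop :=
  ∀ (T' : Over (B0 k)) (h : T' ⟶ T) (c : T' ⟶ A.Z), Nonempty (pl (st k X) c A.E ≅ pl (st k X) h F) →
    h ≫ g = c ≫ A.π

variable {A} {T T' : Over (B0 k)} {F F' : (PicF.XT (st k X) T).Modules}

theorem IsCl.unique {g g' : T ⟶ A.M} (hF : Q T F) (h : IsCl A F g) (h' : IsCl A F g') : g = g' := by
  refine hom_ext_loc fun t => ?_
  obtain ⟨U, c, ht, e⟩ := A.lift T F hF t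
  exact ⟨U, ht, (h _ _ c e).trans (h' _ _ c e).symm⟩

theorem IsCl.of_loc {g : T ⟶ A.M} (h : ∀ t : T.left, ∃ (U : T.left.Opens) (c : opn T U ⟶ A.Z), t ∈ U ∧
    Nonempty (pl (st k X) c A.E ≅ pl (st k X) (opi T U) F) ∧ opi T U ≫ g = c ≫ A.π) : IsCl A F g := by
  intro T' a c' e'
  refine hom_ext_loc fun t' => ?_
  obtain ⟨U, c, ht, e, hg⟩ := h (a.left t')
  refine ⟨a.left ⁻¹ᵁ U, ht, ?_⟩
  let b : opn T' (a.left ⁻¹ᵁ U) ⟶ opn T U := Over.homMk (a.left ∣_ U) (by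
    change (a.left ∣_ U) ≫ U.ι ≫ T.hom = (a.left ⁻¹ᵁ U).ι ≫ T'.hom
    rw [← Category.assoc, morphismRestrict_ι, Category.assoc, Over.w a])
  have hb : b ≫ opi T U = opi T' (a.left ⁻¹ᵁ U) ≫ a := Over.OverMorphism.ext (morphismRestrict_ι a.left U)
  have h1 : (b ≫ c) ≫ A.π = (opi T' (a.left ⁻¹ᵁ U) ≫ c') ≫ A.π := by
    apply A.inv
    obtain ⟨e⟩ := e
    obtain ⟨e'⟩ := e'
    obtain ⟨e1⟩ := pl_comp (st k X) c b A.E
    obtain ⟨e2⟩ := pl_congr (st k X) b ⟨e⟩
    obtain ⟨e3⟩ := pl_comp (st k X) (opi T U) b F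
    obtain ⟨e4⟩ := pl_comp (st k X) a (opi T' (a.left ⁻¹ᵁ U)) F
    obtain ⟨e5⟩ := pl_congr (st k X) (opi T' (a.left ⁻¹ᵁ U)) ⟨e'⟩
    obtain ⟨e6⟩ := pl_comp (st k X) c' (opi T' (a.left ⁻¹ᵁ U)) A.E
    rw [hb] at e3
    exact ⟨e1 ≪≫ e2 ≪≫ e3.symm ≪≫ e4 ≪≫ e5.symm ≪≫ e6.symm⟩
  rw [← Category.assoc, ← hb, Category.assoc, hg, ← Category.assoc, h1, Category.assoc]

theorem exists_isCl (hF : Q T F) : ∃ g : T ⟶ A.M, IsCl A F g := by
  obtain ⟨g, hg⟩ := exists_glue (T := T) (N := A.M)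
    (fun U m => ∃ c : opn T U ⟶ A.Z, m = c ≫ A.π ∧ Nonempty (pl (st k X) c A.E ≅ pl (st k X) (opi T U) F))
    (fun t => by
      obtain ⟨U, c, ht, e⟩ := A.lift T F hF t
      exact ⟨U, c ≫ A.π, ht, c, rfl, e⟩)
    (by
      rintro U U' m m' ⟨c, rfl, ⟨e⟩⟩ ⟨c', rfl, ⟨e'⟩⟩ W a a' haa
      rw [← Category.assoc, ← Category.assoc]
      apply A.inv
      obtain ⟨e1⟩ := pl_comp (st k X) c a A.E
      obtain ⟨e2⟩ := pl_congr (st k X) a ⟨e⟩
      obtain ⟨e3⟩ := pl_comp (st k X) (opi T U) a F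
      obtain ⟨e4⟩ := pl_comp (st k X) (opi T U') a' F
      obtain ⟨e5⟩ := pl_congr (st k X) a' ⟨e'⟩
      obtain ⟨e6⟩ := pl_comp (st k X) c' a' A.E
      rw [haa] at e3
      exact ⟨e1 ≪≫ e2 ≪≫ e3.symm ≪≫ e4 ≪≫ e5.symm ≪≫ e6.symm⟩)
  refine ⟨g, IsCl.of_loc fun t => ?_⟩
  obtain ⟨U, c, ht, e⟩ := A.lift T F hF t
  exact ⟨U, c, ht, e, hg U _ ⟨c, rfl, e⟩⟩

theorem IsCl.pull {g : T ⟶ A.M} (h : IsCl A F g) (a : T' ⟶ T) : IsCl A (pl (st k X) a F) (a ≫ g) := by
  intro T'' b c e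
  rw [← Category.assoc]
  refine h _ _ _ ?_
  obtain ⟨e⟩ := e
  obtain ⟨e1⟩ := pl_comp (st k X) a b F
  exact ⟨e ≪≫ e1.symm⟩

theorem IsCl.of_r {g : T ⟶ A.M} (h : IsCl A F g) (hr : (ModFun.modProb (st k X)).r T F F') : IsCl A F' g := by
  intro T' a c e
  refine hom_ext_loc fun t' => ?_
  obtain ⟨U, ht, e'⟩ := loc_iso_of_r (r_pull a hr) t'
  refine ⟨U, ht, ?_⟩
  rw [← Category.assoc, ← Category.assoc]
  refine h _ _ _ ?_
  obtain ⟨e'⟩ := e'
  obtain ⟨e1⟩ := pl_comp (st k X) c (opi T' U) A.E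
  obtain ⟨e2⟩ := pl_congr (st k X) (opi T' U) e
  obtain ⟨e3⟩ := pl_comp (st k X) a (opi T' U) F
  exact ⟨e1 ≪≫ e2 ≪≫ e' ≪≫ e3.symm⟩

variable (A)

theorem isCl_E (c : T ⟶ A.Z) : IsCl A (pl (st k X) c A.E) (c ≫ A.π) := by
  intro T' h c' e
  rw [← Category.assoc]
  apply A.inv
  obtain ⟨e⟩ := e
  obtain ⟨e1⟩ := pl_comp (st k X) c h A.E
  exact ⟨e1 ≪≫ e.symm⟩

/-- The classifying morphism of an atlas. -/
noncomputable def phi : ((ModFun.modProb (st k X)).restrict Q).Hom ⊤ A.M where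
  app _ _ _ hF := (exists_isCl (A := A) hF.2).choose
  natural g F _ _ hF hF' :=
    IsCl.unique hF'.2 (exists_isCl (A := A) hF'.2).choose_spec ((exists_isCl (A := A) hF.2).choose_spec.pull g)
  resp F F' _ hF hF' hr :=
    IsCl.unique hF'.2 ((exists_isCl (A := A) hF.2).choose_spec.of_r hr) (exists_isCl (A := A) hF'.2).choose_spec

theorem isCl_phi (hF : ((ModFun.modProb (st k X)).restrict Q).ok T F) : IsCl A F ((phi A).app T F trivial hF) :=
  (exists_isCl (A := A) hF.2).choose_spec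

theorem phi_E (c : T ⟶ A.Z) (hF : ((ModFun.modProb (st k X)).restrict Q).ok T (pl (st k X) c A.E)) :
    (phi A).app T (pl (st k X) c A.E) trivial hF = c ≫ A.π :=
  IsCl.unique hF.2 (isCl_phi A hF) (isCl_E A c)

theorem univBest (hQ : ∀ {T T' : Over (B0 k)} (g : T' ⟶ T) (F : (PicF.XT (st k X) T).Modules), Q T F →
    Q T' (pl (st k X) g F)) : UnivBest (phi A) := by
  intro Y y N ψ
  have hE : (bc (phi A) y).ok (pullback A.π y) (pl (st k X) (pullback.fst A.π y) A.E, pullback.snd A.π y) :=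
    ⟨⟨trivial, hQ _ _ A.ok⟩, by rw [phi_E, ← pullback.condition]⟩
  obtain ⟨q, hq, hu⟩ := A.uni Y y N (ψ.app (pullback A.π y) (pl (st k X) (pullback.fst A.π y) A.E, pullback.snd A.π y)
    trivial hE) (by
      intro T x x' h1 h2
      have hx : ∀ (z : T ⟶ pullback A.π y), (bc (phi A) y).ok T ((bc (phi A) y).pull z
          (pl (st k X) (pullback.fst A.π y) A.E, pullback.snd A.π y)) := fun z => by
        refine ⟨⟨trivial, hQ _ _ hE.1.2⟩, ?_⟩
        obtain ⟨h3, h4⟩ := hE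
        exact (Category.assoc _ _ _).trans ((congrArg (z ≫ ·) h4).trans ((phi A).natural z _ trivial trivial h3 _).symm)
      rw [← ψ.natural x _ trivial trivial hE (hx x), ← ψ.natural x' _ trivial trivial hE (hx x')]
      refine ψ.resp _ _ trivial _ _ ⟨r_of_iso _ ?_, h1⟩
      obtain ⟨e⟩ := h2
      obtain ⟨e1⟩ := pl_comp (st k X) (pullback.fst A.π y) x A.E
      obtain ⟨e2⟩ := pl_comp (st k X) (pullback.fst A.π y) x' A.E
      exact ⟨e1.symm ≪≫ e ≪≫ e2⟩)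
  refine ⟨q, ?_, fun q' hq' => hu q' ?_⟩
  · rintro T ⟨F, t⟩ _ ⟨hF, ht⟩
    change ψ.app T (F, t) trivial ⟨hF, ht⟩ = t ≫ q
    refine hom_ext_loc fun t₀ => ?_
    obtain ⟨U, c, ht₀, e⟩ := A.lift T F hF.2 t₀
    refine ⟨U, ht₀, ?_⟩
    have h1 : c ≫ A.π = (opi T U ≫ t) ≫ y := by
      rw [Category.assoc]
      change _ = _ ≫ t ≫ y
      rw [ht, isCl_phi A hF _ (opi T U) c e]
    let x : opn T U ⟶ pullback A.π y := pullback.lift c (opi T U ≫ t) h1
    have hx : (bc (phi A) y).ok (opn T U) ((bc (phi A) y).pull x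
        (pl (st k X) (pullback.fst A.π y) A.E, pullback.snd A.π y)) := by
      refine ⟨⟨trivial, hQ _ _ hE.1.2⟩, ?_⟩
      obtain ⟨h3, h4⟩ := hE
      exact (Category.assoc _ _ _).trans ((congrArg (x ≫ ·) h4).trans ((phi A).natural x _ trivial trivial h3 _).symm)
    have hxF : (bc (phi A) y).ok (opn T U) ((bc (phi A) y).pull (opi T U) (F, t)) := by
      refine ⟨⟨trivial, hQ _ _ hF.2⟩, ?_⟩
      exact (Category.assoc _ _ _).trans ((congrArg (opi T U ≫ ·) ht).trans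
        ((phi A).natural (opi T U) _ trivial trivial hF _).symm)
    rw [← ψ.natural (opi T U) (F, t) trivial trivial ⟨hF, ht⟩ hxF]
    have h2 : opi T U ≫ t ≫ q = x ≫ ψ.app (pullback A.π y)
        (pl (st k X) (pullback.fst A.π y) A.E, pullback.snd A.π y) trivial hE := by
      rw [← hq, ← Category.assoc, ← Category.assoc]
      congr 1
      exact (pullback.lift_snd _ _ _).symm
    rw [h2, ← ψ.natural x _ trivial trivial hE hx]
    refine ψ.resp _ _ trivial _ _ ⟨r_of_iso _ ?_, (pullback.lift_snd _ _ _).symm⟩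
    obtain ⟨e⟩ := e
    obtain ⟨e1⟩ := pl_comp (st k X) (pullback.fst A.π y) x A.E
    have h5 : x ≫ pullback.fst A.π y = c := pullback.lift_fst _ _ _
    rw [h5] at e1
    exact ⟨e.symm ≪≫ e1⟩
  · exact (hq' (pullback A.π y) (_, _) trivial hE).symm

end atlas

end K757.FromAtlas
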