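import Mathlib.RingTheory.IsTensorProduct
import Mathlib.LinearAlgebra.TensorProduct.Basic

/-!
# Reynolds operators of ring maps

`K757.Rey.IsRey φ G r`: `r : B →+ Λ` is a `Λ`-linear retraction of `φ : Λ →+* B`, preserving the ideals stable under the
endomorphisms in `G` and with `φ (r x) = x` for `x` invariant under `G`.
`K757.Rey.baseChange`: a Reynolds operator preserving the stable subspaces with coefficients induces one after every
base change.
-/

set_option autoImplicit false
universe u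
open TensorProduct

namespace K757.Rey

/-- `r` is a Reynolds operator for the ring map `φ` and the set `G` of endomorphisms. -/
structure IsRey {Λ B : Type u} [CommRing Λ] [CommRing B] (φ : Λ →+* B) (G : (B →+* B) → Prop) (r : B →+ Λ) : Prop where
  retr : ∀ a, r (φ a) = a
  lin : ∀ a x, r (φ a * x) = a * r x
  stab : ∀ I : Ideal B, (∀ g, G g → ∀ x ∈ I, g x ∈ I) → ∀ x ∈ I, φ (r x) ∈ I
  inv : ∀ x, (∀ g, G g → g x = x) → φ (r x) = x

section

variable {k A B Λ B' : Type u} [Field k] [CommRing A] [CommRing B] [CommRing Λ] [CommRing B']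
  [Algebra k B] [Algebra k Λ] [Algebra k B'] [Algebra A B] [Algebra A Λ] [Algebra A B'] [Algebra B B'] [Algebra Λ B']
  [IsScalarTower k Λ B'] [IsScalarTower k B B'] [IsScalarTower A B B']
  [IsScalarTower A Λ B']

variable (k Λ B B') in
/-- The map `Λ ⊗ B ⟶ B'`. -/
noncomputable def bar : Λ ⊗[k] B →ₐ[k] B' :=
  Algebra.TensorProduct.productMap (IsScalarTower.toAlgHom k Λ B') (IsScalarTower.toAlgHom k B B')

theorem bar_tmul (l : Λ) (b : B) : bar k B Λ B' (l ⊗ₜ b) = algebraMap Λ B' l * algebraMap B B' b := by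
  rw [bar, Algebra.TensorProduct.productMap_apply_tmul]
  rfl


theorem bar_surjective [h : Algebra.IsPushout A Λ B B'] : Function.Surjective (bar k B Λ B') := by
  intro x
  refine h.out.inductionOn x _ ⟨0, map_zero _⟩ (fun m => ⟨1 ⊗ₜ m, ?_⟩) ?_ ?_
  · rw [bar_tmul, map_one, one_mul]
    rfl
  · rintro s _ ⟨t, rfl⟩
    exact ⟨(s ⊗ₜ 1) * t, by rw [map_mul, bar_tmul, map_one, mul_one, Algebra.smul_def]⟩
  · rintro _ _ ⟨t, rfl⟩ ⟨t', rfl⟩
    exact ⟨t + t', map_add _ _ _⟩

theorem baseChange [Algebra.IsPushout A Λ B B'] (hinj : Function.Injective (algebraMap A B)) (ρ : B →ₗ[k] B)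
    (h1 : ∀ f, ∃ h : A, algebraMap A B h = ρ f) (h2 : ∀ h : A, ρ (algebraMap A B h) = algebraMap A B h)
    (h3 : ∀ (h : A) (f : B), ρ (algebraMap A B h * f) = algebraMap A B h * ρ f) (T : (B →ₗ[k] B) → Prop)
    (hT : ∀ τ, T τ → τ 1 = 1)
    (h4 : ∀ (C : Type u) [CommRing C] [Algebra k C] (J : Submodule k (C ⊗[k] B)),
      (∀ τ, T τ → J ≤ J.comap (τ.lTensor C)) → J ≤ J.comap (ρ.lTensor C))
    (G : (B' →+* B') → Prop)
    (hG : ∀ τ, T τ → ∃ g, G g ∧ (∀ a : Λ, g (algebraMap Λ B' a) = algebraMap Λ B' a) ∧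
      ∀ b : B, g (algebraMap B B' b) = algebraMap B B' (τ b)) :
    ∃ r, IsRey (algebraMap Λ B') G r := by
  choose σ hσ using h1
  -- the corestriction
  let ρ' : B →ₗ[A] A :=
    { toFun := σ
      map_add' := fun x y => hinj (by rw [hσ, map_add, map_add, hσ, hσ])
      map_smul' := fun a x => hinj (by
        rw [RingHom.id_apply, smul_eq_mul, map_mul, hσ, hσ, Algebra.smul_def, h3]) }
  have hρ' : ∀ f, algebraMap A B (ρ' f) = ρ f := hσ
  have hρ'' : ∀ a : A, ρ' (algebraMap A B a) = a := fun a => hinj (by rw [hρ', h2])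
  have hpo : IsBaseChange Λ (IsScalarTower.toAlgHom A B B').toLinearMap :=
    Algebra.IsPushout.out
  let r : B' →ₗ[Λ] Λ := hpo.lift ((Algebra.linearMap A Λ) ∘ₗ ρ')
  have hr : ∀ b : B, r (algebraMap B B' b) = algebraMap A Λ (ρ' b) := fun b => hpo.lift_eq _ b
  have hbar : ∀ t : Λ ⊗[k] B, bar k B Λ B' (ρ.lTensor Λ t) = algebraMap Λ B' (r (bar k B Λ B' t)) := by
    intro t
    induction t with
    | zero => simp
    | add x y hx hy => rw [map_add, map_add, hx, hy, map_add, map_add, map_add]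
    | tmul l b =>
      rw [LinearMap.lTensor_tmul, bar_tmul, bar_tmul, ← Algebra.smul_def l (algebraMap B B' b), map_smul, hr,
        smul_eq_mul, map_mul, ← hρ', ← IsScalarTower.algebraMap_apply A B B',
        ← IsScalarTower.algebraMap_apply A Λ B']
  have hg : ∀ (τ : B →ₗ[k] B) (g : B' →+* B'), (∀ a : Λ, g (algebraMap Λ B' a) = algebraMap Λ B' a) →
      (∀ b : B, g (algebraMap B B' b) = algebraMap B B' (τ b)) →
      ∀ t : Λ ⊗[k] B, bar k B Λ B' (τ.lTensor Λ t) = g (bar k B Λ B' t) := by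
    intro τ g h5 h6 t
    induction t with
    | zero => simp
    | add x y hx hy => rw [map_add, map_add, hx, hy, map_add, map_add]
    | tmul l b => rw [LinearMap.lTensor_tmul, bar_tmul, bar_tmul, map_mul, h5, h6]
  have hk : ∀ (c : k) (x : B'), c • x = algebraMap Λ B' (algebraMap k Λ c) * x := by
    intro c x
    rw [Algebra.smul_def, IsScalarTower.algebraMap_apply k Λ B']
  refine ⟨r.toAddMonoidHom, fun a => ?_, fun a x => ?_, fun I hI x hx => ?_, fun x hx => ?_⟩
  · change r (algebraMap Λ B' a) = a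
    have : algebraMap Λ B' a = a • algebraMap B B' (algebraMap A B 1) := by
      rw [Algebra.smul_def, map_one, map_one, mul_one]
    rw [this, map_smul, hr, hρ'', map_one, smul_eq_mul, mul_one]
  · change r (algebraMap Λ B' a * x) = a * r x
    rw [← Algebra.smul_def, map_smul, smul_eq_mul]
  · obtain ⟨t, rfl⟩ := bar_surjective (k := k) (A := A) (B := B) (Λ := Λ) (B' := B') x
    change algebraMap Λ B' (r _) ∈ I
    rw [← hbar]
    have := h4 Λ ((I.restrictScalars k).comap (bar k B Λ B').toLinearMap) (fun τ hτ y hy => ?_) hx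
    · exact this
    · obtain ⟨g, hgG, h5, h6⟩ := hG τ hτ
      change bar k B Λ B' (τ.lTensor Λ y) ∈ I
      rw [hg τ g h5 h6]
      exact hI g hgG _ hy
  · obtain ⟨t, rfl⟩ := bar_surjective (k := k) (A := A) (B := B) (Λ := Λ) (B' := B') x
    change algebraMap Λ B' (r _) = _
    let J : Submodule k ((Λ × k) ⊗[k] B) :=
      { carrier := {w | ∃ c : k, bar k B Λ B' ((LinearMap.fst k Λ k).rTensor B w) = c • bar k B Λ B' t ∧
          (LinearMap.snd k Λ k).rTensor B w = c • (1 ⊗ₜ 1)}
        zero_mem' := ⟨0, by simp, by simp⟩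
        add_mem' := by
          rintro w w' ⟨c, h5, h6⟩ ⟨c', h5', h6'⟩
          exact ⟨c + c', by rw [map_add, map_add, h5, h5', add_smul], by rw [map_add, h6, h6', add_smul]⟩
        smul_mem' := by
          rintro a w ⟨c, h5, h6⟩
          exact ⟨a * c, by rw [map_smul, map_smul, h5, mul_smul], by rw [map_smul, h6, mul_smul]⟩ }
    have hcomm : ∀ (τ : B →ₗ[k] B) (w : (Λ × k) ⊗[k] B), (LinearMap.fst k Λ k).rTensor B (τ.lTensor (Λ × k) w) =
        τ.lTensor Λ ((LinearMap.fst k Λ k).rTensor B w) := by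
      intro τ w
      rw [← LinearMap.comp_apply, ← LinearMap.comp_apply, LinearMap.rTensor_comp_lTensor,
        LinearMap.lTensor_comp_rTensor]
    have hcomm' : ∀ (τ : B →ₗ[k] B) (w : (Λ × k) ⊗[k] B), (LinearMap.snd k Λ k).rTensor B (τ.lTensor (Λ × k) w) =
        τ.lTensor k ((LinearMap.snd k Λ k).rTensor B w) := by
      intro τ w
      rw [← LinearMap.comp_apply, ← LinearMap.comp_apply, LinearMap.rTensor_comp_lTensor,
        LinearMap.lTensor_comp_rTensor]
    let w₀ : (Λ × k) ⊗[k] B := (LinearMap.inl k Λ k).rTensor B t + (LinearMap.inr k Λ k).rTensor B (1 ⊗ₜ 1)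
    have hw1 : (LinearMap.fst k Λ k).rTensor B w₀ = t := by
      rw [map_add, ← LinearMap.comp_apply, ← LinearMap.rTensor_comp, LinearMap.fst_comp_inl, ← LinearMap.comp_apply,
        ← LinearMap.rTensor_comp, LinearMap.fst_comp_inr, LinearMap.rTensor_id, LinearMap.rTensor_zero]
      simp
    have hw2 : (LinearMap.snd k Λ k).rTensor B w₀ = 1 ⊗ₜ 1 := by
      rw [map_add, ← LinearMap.comp_apply, ← LinearMap.rTensor_comp, LinearMap.snd_comp_inl, ← LinearMap.comp_apply,
        ← LinearMap.rTensor_comp, LinearMap.snd_comp_inr, LinearMap.rTensor_id, LinearMap.rTensor_zero]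
      simp
    have h5 := h4 (Λ × k) J (fun τ hτ w => ?_) (show w₀ ∈ J from ⟨1, by rw [hw1, one_smul], by rw [hw2, one_smul]⟩)
    · obtain ⟨c, h6, h7⟩ := h5
      rw [hcomm, hw1, hbar] at h6
      rw [hcomm', hw2, LinearMap.lTensor_tmul] at h7
      have h8 : ρ 1 = 1 := by
        have := h2 1
        rwa [map_one] at this
      rw [h8] at h7
      have h9 : (1 : B') = c • (1 : B') := by
        have h10 := congrArg (TensorProduct.lid k B) h7
        rw [map_smul, TensorProduct.lid_tmul, one_smul] at h10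
        have h11 := congrArg (algebraMap B B') h10
        rw [map_one, Algebra.smul_def, map_mul, map_one, mul_one, ← IsScalarTower.algebraMap_apply k B B'] at h11
        rw [Algebra.smul_def, mul_one]
        exact h11
      rw [h6]
      conv_rhs => rw [← one_mul (bar k B Λ B' t), h9, smul_mul_assoc, one_mul]
    · rintro ⟨c, h6, h7⟩
      obtain ⟨g, hgG, h8, h9⟩ := hG τ hτ
      refine ⟨c, ?_, ?_⟩
      · rw [hcomm, hg τ g h8 h9, h6, hk, map_mul, h8, hx g hgG]
      · rw [hcomm', h7, map_smul, LinearMap.lTensor_tmul, hT τ hτ]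

end

end K757.Rey
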