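import Groth.Agent.BunMod.K757.CatQ
import Groth.Agent.BunMod.K757.FromAtlas
import Groth.Agent.BunMod.K140.Defs3
import Groth.Agent.Pi1C.EtTraceSch

/-!
# The quotient of an `AtlasC` is a universal categorical quotient

`good`: for `A : AtlasC k X Q` and every `y : Y ⟶ A.M` the base change `Z ×_M Y ⟶ Y` is a good quotient (`CatQ.Good`).
`toAtlas : Atlas k X Q`, `univBest : UnivBest (phi (toAtlas A))`.
-/

set_option autoImplicit false
universe u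
open CategoryTheory CategoryTheory.Limits AlgebraicGeometry TopologicalSpace TensorProduct

namespace K757.Uni

open K140.BM K757.Rey K757.CatQ K757.FromAtlas K757.HomOver

section base

variable {k : Type u} [Field k] {Z M Y : Over (B0 k)} {π : Z ⟶ M} {y : Y ⟶ M} {W : Over (B0 k)} {p : W ⟶ Z} {q : W ⟶ Y}

theorem algOn_map {Z Z' : Over (B0 k)} (g : Z' ⟶ Z) (O : Z.left.Opens) (O' : Z'.left.Opens)
    (e : O' ≤ g.left ⁻¹ᵁ O) (c : k) :
    (g.left.appLE O O' e).hom (letI := algOn Z O; algebraMap k Γ(Z.left, O) c) =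
      (letI := algOn Z' O'; algebraMap k Γ(Z'.left, O') c) := by
  have h1 := Scheme.Hom.appLE_comp_appLE g.left Z.hom ⊤ O O' le_top e
  have h2 := congrArg (fun z => z.hom ((Scheme.ΓSpecIso (CommRingCat.of k)).inv.hom c)) h1
  refine h2.trans ?_
  simp only [Over.w g]
  rfl

/-- Reynolds operators and base change. -/
theorem exists_isRey (hsq : IsPullback p q π y) [IsAffineHom π.left] {IsAct : (Z ⟶ Z) → Prop}
    (hact : ∀ γ, IsAct γ → γ ≫ π = π) {V : M.left.Opens} (hV : IsAffineOpen V)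
    (hinj : Function.Injective (π.left.app V)) (hR : IsReynolds π IsAct V) {U : Y.left.Opens} (hU : IsAffineOpen U)
    (e : U ≤ y.left ⁻¹ᵁ V) :
    ∃ r, IsRey (q.left.app U).hom
      (endo (fun γ' : W.left ⟶ W.left => ∃ (γ : Z ⟶ Z) (g : W ⟶ W), IsAct γ ∧ g ≫ p = p ≫ γ ∧ g ≫ q = q ∧
        γ' = g.left) (q.left ⁻¹ᵁ U)) r := by
  obtain ⟨ρ, h1, h2, h3, h4⟩ := hR
  have hsq' : IsPullback p.left q.left π.left y.left := hsq.map (Over.forget _)
  have e' : q.left ⁻¹ᵁ U ≤ p.left ⁻¹ᵁ (π.left ⁻¹ᵁ V) := Groth.Agent.Pi1C.EtTraceSch.preimage_le' hsq'.w e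
  have hpo := Groth.Agent.Pi1C.EtTraceSch.isPushout_appLE hsq' hV hU e e'
  let i1 : Algebra k Γ(Z.left, π.left ⁻¹ᵁ V) := algOn Z (π.left ⁻¹ᵁ V)
  let i2 : Algebra k Γ(Y.left, U) := algOn Y U
  let i3 : Algebra k Γ(W.left, q.left ⁻¹ᵁ U) := algOn W (q.left ⁻¹ᵁ U)
  let i4 : Algebra Γ(M.left, V) Γ(Z.left, π.left ⁻¹ᵁ V) := (π.left.app V).hom.toAlgebra
  let i5 : Algebra Γ(M.left, V) Γ(Y.left, U) := (y.left.appLE V U e).hom.toAlgebra
  let i6 : Algebra Γ(Z.left, π.left ⁻¹ᵁ V) Γ(W.left, q.left ⁻¹ᵁ U) :=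
    (p.left.appLE (π.left ⁻¹ᵁ V) (q.left ⁻¹ᵁ U) e').hom.toAlgebra
  let i7 : Algebra Γ(Y.left, U) Γ(W.left, q.left ⁻¹ᵁ U) := (q.left.app U).hom.toAlgebra
  let i8 : Algebra Γ(M.left, V) Γ(W.left, q.left ⁻¹ᵁ U) :=
    ((q.left.app U).hom.comp (y.left.appLE V U e).hom).toAlgebra
  have t1 : IsScalarTower Γ(M.left, V) Γ(Y.left, U) Γ(W.left, q.left ⁻¹ᵁ U) := .of_algebraMap_eq fun x => rfl
  have t2 : IsScalarTower Γ(M.left, V) Γ(Z.left, π.left ⁻¹ᵁ V) Γ(W.left, q.left ⁻¹ᵁ U) := by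
    refine .of_algebraMap_eq fun x => ?_
    exact congrArg (fun z => z.hom x) hpo.w
  have t3 : IsScalarTower k Γ(Y.left, U) Γ(W.left, q.left ⁻¹ᵁ U) := by
    refine .of_algebraMap_eq fun x => ?_
    have := algOn_map q U (q.left ⁻¹ᵁ U) le_rfl x
    rw [Scheme.Hom.appLE_eq_app] at this
    exact this.symm
  have t4 : IsScalarTower k Γ(Z.left, π.left ⁻¹ᵁ V) Γ(W.left, q.left ⁻¹ᵁ U) := by
    refine .of_algebraMap_eq fun x => ?_
    exact (algOn_map p (π.left ⁻¹ᵁ V) (q.left ⁻¹ᵁ U) e' x).symm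
  have t5 : Algebra.IsPushout Γ(M.left, V) Γ(Y.left, U) Γ(Z.left, π.left ⁻¹ᵁ V) Γ(W.left, q.left ⁻¹ᵁ U) :=
    CommRingCat.isPushout_iff_isPushout.1 hpo
  refine baseChange (k := k) (A := Γ(M.left, V)) (B := Γ(Z.left, π.left ⁻¹ᵁ V)) (Λ := Γ(Y.left, U))
    (B' := Γ(W.left, q.left ⁻¹ᵁ U)) hinj ρ h1 h2 h3
    (fun τ => ∃ (γ : Z ⟶ Z) (_ : IsAct γ) (e : π.left ⁻¹ᵁ V ≤ γ.left ⁻¹ᵁ (π.left ⁻¹ᵁ V)),
      ∀ f, τ f = γ.left.appLE (π.left ⁻¹ᵁ V) (π.left ⁻¹ᵁ V) e f) ?_ ?_ _ ?_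
  · rintro τ ⟨γ, -, e1, h⟩
    rw [h, map_one]
  · intro C _ _ J hJ
    exact h4 C J fun γ hγ τ e1 h => hJ τ ⟨γ, hγ, e1, h⟩
  · rintro τ ⟨γ, hγ, e1, h⟩
    have hcond : (p ≫ γ) ≫ π = q ≫ y := by rw [Category.assoc, hact γ hγ, hsq.w]
    let g : W ⟶ W := hsq.lift (p ≫ γ) q hcond
    have hg1 : g ≫ p = p ≫ γ := hsq.lift_fst _ _ _
    have hg2 : g ≫ q = q := hsq.lift_snd _ _ _
    have e2 : q.left ⁻¹ᵁ U ≤ g.left ⁻¹ᵁ (q.left ⁻¹ᵁ U) := by
      rw [← Scheme.Hom.comp_preimage, ← Over.comp_left, hg2]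
    refine ⟨(g.left.appLE _ _ e2).hom, ⟨g.left, ⟨γ, g, hγ, hg1, hg2, rfl⟩, e2, rfl⟩, fun a => ?_, fun b => ?_⟩
    · have h5 := Scheme.Hom.appLE_comp_appLE g.left q.left U (q.left ⁻¹ᵁ U) (q.left ⁻¹ᵁ U) le_rfl e2
      have h6 := congrArg (fun z => z.hom a) h5
      rw [Scheme.Hom.appLE_eq_app] at h6
      refine h6.trans ?_
      simp only [← Over.comp_left, hg2, Scheme.Hom.appLE_eq_app]
      try rfl
    · have h5 := Scheme.Hom.appLE_comp_appLE g.left p.left (π.left ⁻¹ᵁ V) (q.left ⁻¹ᵁ U) (q.left ⁻¹ᵁ U) e' e2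
      have h5' := Scheme.Hom.appLE_comp_appLE p.left γ.left (π.left ⁻¹ᵁ V) (π.left ⁻¹ᵁ V) (q.left ⁻¹ᵁ U) e1 e'
      have h6 := congrArg (fun z => z.hom b) h5
      have h7 := congrArg (fun z => z.hom b) h5'
      refine h6.trans (Eq.trans ?_ (h7.symm.trans ?_))
      · simp only [← Over.comp_left, hg1]
      · change (p.left.appLE _ _ e').hom ((γ.left.appLE _ _ e1).hom b) = (p.left.appLE _ _ e').hom (τ b)
        rw [h]

end base

variable {k : Type u} [Field k] {X : Scheme.{u}} [X.Over (Spec (CommRingCat.of k))]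
  {Q : ∀ T : Over (B0 k), (ModFun.modProb (st k X)).Fam T → Prop} (A : AtlasC k X Q)

/-- The automorphisms of the atlas given by rational points of `GL_b × GL_a`. -/
def isAct (γ : A.Z ⟶ A.Z) : Prop :=
  ∃ (u : GL (Fin A.b) k) (v : GL (Fin A.a) k), γ = A.act (matT A.Z u) (matT A.Z v) (𝟙 A.Z)

/-- Every base change of the quotient is a good quotient. -/
theorem good {Y W : Over (B0 k)} {y : Y ⟶ A.M} {p : W ⟶ A.Z} {q : W ⟶ Y} (hsq : IsPullback p q A.π y) :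
    Good q.left (fun γ' : W.left ⟶ W.left => ∃ (γ : A.Z ⟶ A.Z) (g : W ⟶ W), isAct A γ ∧ g ≫ p = p ≫ γ ∧ g ≫ q = q ∧
      γ' = g.left) (fun U => ∃ V : A.M.left.Opens, IsAffineOpen V ∧ IsReynolds A.π (isAct A) V ∧
        U ≤ y.left ⁻¹ᵁ V) where
  cov t := by
    obtain ⟨V, hm, hV, hR⟩ := A.charts (y.left t)
    exact ⟨y.left ⁻¹ᵁ V, hm, V, hV, hR, le_rfl⟩
  mono := by
    rintro U U' hle ⟨V, hV, hR, h⟩
    exact ⟨V, hV, hR, hle.trans h⟩
  comp := by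
    rintro _ ⟨γ, g, hγ, hg1, hg2, rfl⟩
    rw [← Over.comp_left, hg2]
  rey := by
    rintro U hU ⟨V, hV, hR, h⟩
    have := A.aff
    refine exists_isRey hsq ?_ hV (A.functions V hV).1 hR hU h
    rintro _ ⟨u, v, rfl⟩
    rw [A.act_π, Category.id_comp]

/-- The universal property after base change. -/
theorem uni (Y : Over (B0 k)) (y : Y ⟶ A.M) (N : Over (B0 k)) (ψ : pullback A.π y ⟶ N)
    (hψ : ∀ (T : Over (B0 k)) (x x' : T ⟶ pullback A.π y), x ≫ pullback.snd A.π y = x' ≫ pullback.snd A.π y →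
      Nonempty (pl k X (x ≫ pullback.fst A.π y) A.E ≅ pl k X (x' ≫ pullback.fst A.π y) A.E) →
        x ≫ ψ = x' ≫ ψ) :
    ∃! q : Y ⟶ N, pullback.snd A.π y ≫ q = ψ := by
  have hsq := IsPullback.of_hasPullback A.π y
  have hg := good A hsq
  have haff : IsAffineHom (pullback.snd A.π y).left := by
    have := A.aff
    exact MorphismProperty.of_isPullback (hsq.map (Over.forget _)) this
  have hinv : ∀ γ', (∃ (γ : A.Z ⟶ A.Z) (g : pullback A.π y ⟶ pullback A.π y), isAct A γ ∧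
      g ≫ pullback.fst A.π y = pullback.fst A.π y ≫ γ ∧ g ≫ pullback.snd A.π y = pullback.snd A.π y ∧
      γ' = g.left) → γ' ≫ ψ.left = ψ.left := by
    rintro _ ⟨_, g, ⟨u, v, rfl⟩, hg1, hg2, rfl⟩
    have h1 := hψ _ g (𝟙 _) (by rw [hg2, Category.id_comp]) (by
      rw [hg1, Category.id_comp, A.act_nat, Category.comp_id]
      exact A.act_E _ _ _)
    rw [Category.id_comp] at h1
    rw [← Over.comp_left, h1]
  obtain ⟨q, hq, hu⟩ := hg.existsUnique ψ.left hinv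
  have hepi := hg.epi
  refine ⟨Over.homMk q ?_, ?_, fun q' hq' => ?_⟩
  · rw [← cancel_epi (pullback.snd A.π y).left, ← Category.assoc, hq, Over.w, Over.w]
  · exact Over.OverMorphism.ext hq
  · apply Over.OverMorphism.ext
    refine hu q'.left ?_
    change (pullback.snd A.π y).left ≫ q'.left = ψ.left
    rw [← Over.comp_left, hq']

/-- The atlas of an `AtlasC`. -/
noncomputable def toAtlas : Atlas k X Q where
  Z := A.Z
  M := A.M
  E := A.E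
  π := A.π
  ok := A.ok
  lift := A.lift
  inv T c c' h := by
    obtain ⟨u, v, rfl⟩ := A.orb c c' h
    rw [A.act_π]
  uni := uni A

theorem univBest' (hQ : ∀ {T T' : Over (B0 k)} (g : T' ⟶ T) (F : (PicF.XT (st k X) T).Modules), Q T F →
    Q T' (Fam.pl (st k X) g F)) : UnivBest (phi (toAtlas A)) :=
  univBest (toAtlas A) hQ

end K757.Uni
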